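import Groth.Agent.Lib.GSS.FLES
import Groth.Agent.Lib.InjResMap
import Groth.Agent.Lib.Acyclic

/-! (a) `toRightDerivedZero` is natural in the functor.
(b) `(E ⋙ G).rightDerived q ≅ E ⋙ G.rightDerived q` for `E` exact and preserving injectives. -/

set_option autoImplicit false
universe v v' v'' u u' u''
open CategoryTheory CategoryTheory.Limits

namespace Groth.Agent.FLES

section A

variable {𝒜 : Type u} [Category.{v} 𝒜] [Abelian 𝒜] [HasInjectiveResolutions 𝒜]
  {ℬ : Type u'} [Category.{v'} ℬ] [Abelian ℬ]
  {H G : 𝒜 ⥤ ℬ} [H.Additive] [G.Additive] (β : H ⟶ G)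

lemma toRightDerivedZero'_natTrans {F : 𝒜} (R : InjectiveResolution F) :
    R.toRightDerivedZero' H ≫ HomologicalComplex.cyclesMap
      ((NatTrans.mapHomologicalComplex β (ComplexShape.up ℕ)).app R.cocomplex) 0 =
      β.app F ≫ R.toRightDerivedZero' G := by
  rw [← cancel_mono (HomologicalComplex.iCycles _ _)]
  simp
  exact β.naturality (R.ι.f 0)

lemma toRightDerivedZero_natTrans (F : 𝒜) :
    H.toRightDerivedZero.app F ≫ (NatTrans.rightDerived β 0).app F =
      β.app F ≫ G.toRightDerivedZero.app F := by
  rw [(injectiveResolution F).toRightDerivedZero_eq H, (injectiveResolution F).toRightDerivedZero_eq G,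
    (injectiveResolution F).rightDerived_app_eq β 0]
  simp only [Category.assoc]
  erw [Iso.inv_hom_id_assoc]
  rw [← reassoc_of% (toRightDerivedZero'_natTrans β (injectiveResolution F))]
  congr 1
  refine (Category.assoc _ _ _).symm.trans ?_
  have hπ : (CochainComplex.isoHomologyπ₀
      ((H.mapHomologicalComplex (ComplexShape.up ℕ)).obj (injectiveResolution F).cocomplex)).hom ≫
      (HomologicalComplex.homologyFunctor ℬ (ComplexShape.up ℕ) 0).map
        ((NatTrans.mapHomologicalComplex β (ComplexShape.up ℕ)).app (injectiveResolution F).cocomplex) =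
      HomologicalComplex.cyclesMap
        ((NatTrans.mapHomologicalComplex β (ComplexShape.up ℕ)).app (injectiveResolution F).cocomplex) 0 ≫
      (CochainComplex.isoHomologyπ₀
        ((G.mapHomologicalComplex (ComplexShape.up ℕ)).obj (injectiveResolution F).cocomplex)).hom := by
    simp
    exact HomologicalComplex.homologyπ_naturality
      ((NatTrans.mapHomologicalComplex β (ComplexShape.up ℕ)).app (injectiveResolution F).cocomplex) 0
  exact (congrArg (fun t => t ≫ ((injectiveResolution F).isoRightDerivedObj G 0).inv) hπ).trans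
    (Category.assoc _ _ _)

end A

section B

variable {𝒜 : Type u} [Category.{v} 𝒜] [Abelian 𝒜] [EnoughInjectives 𝒜]
  {ℬ : Type u'} [Category.{v'} ℬ] [Abelian ℬ] [HasInjectiveResolutions ℬ]
  {𝒟 : Type u''} [Category.{v''} 𝒟] [Abelian 𝒟]
  (E : 𝒜 ⥤ ℬ) [E.Additive] [PreservesFiniteLimits E] [PreservesFiniteColimits E]
  (hinj : ∀ I : 𝒜, Injective I → Injective (E.obj I))
  (G : ℬ ⥤ 𝒟) [G.Additive]

lemma isZero_rightDerived_of_exact (X : 𝒜) (n : ℕ) : IsZero ((E.rightDerived (n + 1)).obj X) :=
  Groth.Agent.Acyclic.isZero_rightDerived_succ (G := E) (P := fun _ => True)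
    (fun _ _ => trivial) (fun _ _ _ _ => trivial)
    (fun S hS _ => by
      have := hS.epi_g
      infer_instance) X trivial n

/-- `E(R)` is an injective resolution of `E X`. -/
noncomputable def mapRes {X : 𝒜} (R : InjectiveResolution X) : InjectiveResolution (E.obj X) :=
  Groth.Agent.InjResMap.mapOfAcyclic E R (fun n => hinj _ (R.injective n))
    (isZero_rightDerived_of_exact E X)

lemma mapRes_ι_f_zero {X : 𝒜} (R : InjectiveResolution X) :
    (mapRes E hinj R).ι.f 0 = E.map (R.ι.f 0) := by
  simp [mapRes, Groth.Agent.InjResMap.mapOfAcyclic]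

/-- the (identity) comparison. -/
noncomputable def cIso (q : ℕ) (K : CochainComplex 𝒜 ℕ) :
    (HomologicalComplex.homologyFunctor 𝒟 (ComplexShape.up ℕ) q).obj
        (((E ⋙ G).mapHomologicalComplex (ComplexShape.up ℕ)).obj K) ≅
      (HomologicalComplex.homologyFunctor 𝒟 (ComplexShape.up ℕ) q).obj
        ((G.mapHomologicalComplex (ComplexShape.up ℕ)).obj
          ((E.mapHomologicalComplex (ComplexShape.up ℕ)).obj K)) :=
  Iso.refl _

lemma cIso_natural (q : ℕ) {K L : CochainComplex 𝒜 ℕ} (φ : K ⟶ L) :
    ((E ⋙ G).mapHomologicalComplex (ComplexShape.up ℕ) ⋙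
        HomologicalComplex.homologyFunctor 𝒟 (ComplexShape.up ℕ) q).map φ ≫ (cIso E G q L).hom =
      (cIso E G q K).hom ≫ (G.mapHomologicalComplex (ComplexShape.up ℕ) ⋙
        HomologicalComplex.homologyFunctor 𝒟 (ComplexShape.up ℕ) q).map
          ((E.mapHomologicalComplex (ComplexShape.up ℕ)).map φ) := by
  unfold cIso
  erw [Category.comp_id, Category.id_comp]
  rfl

/-- component of the comparison. -/
noncomputable def compIsoApp (q : ℕ) (X : 𝒜) :
    ((E ⋙ G).rightDerived q).obj X ≅ (G.rightDerived q).obj (E.obj X) :=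
  (injectiveResolution X).isoRightDerivedObj (E ⋙ G) q ≪≫ cIso E G q _ ≪≫
    ((mapRes E hinj (injectiveResolution X)).isoRightDerivedObj G q).symm

lemma compIsoApp_natural (q : ℕ) {X Y : 𝒜} (f : X ⟶ Y) :
    ((E ⋙ G).rightDerived q).map f ≫ (compIsoApp E hinj G q Y).hom =
      (compIsoApp E hinj G q X).hom ≫ (G.rightDerived q).map (E.map f) := by
  have comm : (injectiveResolution X).ι.f 0 ≫
      (InjectiveResolution.desc f (injectiveResolution Y) (injectiveResolution X)).f 0 =
        f ≫ (injectiveResolution Y).ι.f 0 :=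
    InjectiveResolution.desc_commutes_zero f _ _
  have comm' : (mapRes E hinj (injectiveResolution X)).ι.f 0 ≫
      ((E.mapHomologicalComplex (ComplexShape.up ℕ)).map
        (InjectiveResolution.desc f (injectiveResolution Y) (injectiveResolution X))).f 0 =
        E.map f ≫ (mapRes E hinj (injectiveResolution Y)).ι.f 0 := by
    rw [mapRes_ι_f_zero, mapRes_ι_f_zero, Functor.mapHomologicalComplex_map_f]
    have := congrArg (fun t => E.map t) comm
    simp only [Functor.map_comp] at this
    exact this.trans (E.map_comp _ _)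
  have h1 := InjectiveResolution.isoRightDerivedObj_hom_naturality f (injectiveResolution X)
    (injectiveResolution Y) _ comm (E ⋙ G) q
  have h2 := InjectiveResolution.isoRightDerivedObj_inv_naturality (E.map f)
    (mapRes E hinj (injectiveResolution X)) (mapRes E hinj (injectiveResolution Y)) _ comm' G q
  have h3 := cIso_natural E G q
    (InjectiveResolution.desc f (injectiveResolution Y) (injectiveResolution X))
  unfold compIsoApp
  simp only [Iso.trans_hom, Iso.symm_hom, Category.assoc]
  rw [reassoc_of% h1, reassoc_of% h3]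
  erw [h2]
  rfl

/-- `(E ⋙ G).rightDerived q ≅ E ⋙ G.rightDerived q`. -/
noncomputable def compIso (q : ℕ) : (E ⋙ G).rightDerived q ≅ E ⋙ G.rightDerived q :=
  NatIso.ofComponents (fun X => compIsoApp E hinj G q X)
    (fun f => compIsoApp_natural E hinj G q f)

end B

end Groth.Agent.FLES
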