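import Groth.Agent.Lib.GSS.SectSuppFlasque
import Groth.Agent.Lib.GSS.DerComp
import Groth.Agent.Lib.CohTopRestrInj
import Groth.Agent.Lib.CohTopAcyclic

set_option autoImplicit false
universe u
open CategoryTheory CategoryTheory.Limits Opposite Abelian TopologicalSpace

namespace Groth.Agent.GSS

open Groth.Agent.CohTopBasics

variable {X : TopCat.{u}} (U : Opens X)

lemma map_isContinuous {Y : TopCat.{u}} (f : Y ⟶ X) :
    (Opens.map f).IsContinuous (Opens.grothendieckTopology X) (Opens.grothendieckTopology Y) :=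
  inferInstance

/-- the explicit adjunction `(-)|_U ⊣ j_*`. -/
noncomputable def adjρ : CohTop.restrFunctor U ⊣ CohTop.push (CohCx.incl U) :=
  haveI H : Topology.IsOpenEmbedding (TopCat.Hom.hom (CohCx.incl U)) := U.isOpenEmbedding
  haveI := H.functor_isContinuous
  haveI := map_isContinuous (CohCx.incl U)
  (H.isOpenMap.adjunction).sheafPushforwardContinuous (E := AddCommGrpCat.{u}) _ _

lemma adjρ_unit_epi (Q : CohTop.Ab X) [TopCat.Sheaf.IsFlasque Q] :
    Epi ((adjρ U).unit.app Q) := by
  have : ∀ V, Epi (((adjρ U).unit.app Q).hom.app V) := by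
    intro V
    simp [adjρ]
    exact TopCat.Presheaf.IsFlasque.epi (F := Q.obj) _
  have : Epi ((adjρ U).unit.app Q).hom := NatTrans.epi_of_epi_app _
  exact Sheaf.Hom.epi_of_presheaf_epi _ _ _

lemma unit_epi_of_isFlasque (Q : CohTop.Ab X) [TopCat.Sheaf.IsFlasque Q] :
    Epi ((adjU U).unit.app Q) := by
  have h := Adjunction.unit_leftAdjointUniq_hom_app (adjU U) (adjρ U) Q
  have hepi := adjρ_unit_epi U Q
  have : (adjU U).unit.app Q = (adjρ U).unit.app Q ≫
      (CohTop.push (CohCx.incl U)).map ((Adjunction.leftAdjointUniq (adjU U) (adjρ U)).inv.app Q) := by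
    rw [← h, Category.assoc, ← Functor.map_comp, Iso.hom_inv_id_app, CategoryTheory.Functor.map_id]
    exact (Category.comp_id _).symm
  rw [this]
  exact epi_comp' hepi inferInstance


/-- `Γ_Z ⟶ 𝟭`. -/
noncomputable def sectSuppιNat : LocCohZ.sectSuppF U ⟶ 𝟭 (CohTop.Ab X) where
  app F := sectSuppι U F
  naturality _ _ φ := sectSuppF_map_ι U φ

/-- `j_* j⁻¹`. -/
noncomputable abbrev Jf : CohTop.Ab X ⥤ CohTop.Ab X :=
  CohTop.pull (CohCx.incl U) ⋙ CohTop.push (CohCx.incl U)

lemma ι_unit_zero (F : CohTop.Ab X) : (sectSuppιNat U).app F ≫ (adjU U).unit.app F = 0 :=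
  sectSuppι_unit U F

lemma ses_of_injective (Q : CohTop.Ab X) (hQ : Injective Q) :
    (ShortComplex.mk ((sectSuppιNat U).app Q) ((adjU U).unit.app Q) (ι_unit_zero U Q)).ShortExact := by
  have : TopCat.Sheaf.IsFlasque Q := isFlasque_of_injective Q
  have h1 := unit_epi_of_isFlasque U Q
  have h2 : Mono ((sectSuppιNat U).app Q) := inferInstanceAs (Mono (sectSuppι U Q))
  exact { exact := ShortComplex.exact_of_f_is_kernel _ (kernelIsKernel ((adjU U).unit.app Q))
          mono_f := h2
          epi_g := h1 }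

instance pullIncl_preservesFiniteLimits : PreservesFiniteLimits (CohTop.pull (CohCx.incl U)) :=
  pull_preservesFiniteLimits (CohCx.incl U)

instance pushIncl_preservesFiniteLimits : PreservesFiniteLimits (CohTop.push (CohCx.incl U)) :=
  push_preservesFiniteLimits (CohCx.incl U)

instance Jf_preservesFiniteLimits : PreservesFiniteLimits (Jf U) :=
  comp_preservesFiniteLimits _ _

/-- the connecting morphism `Rⁿ(j_* j⁻¹) ⟶ ℋ^{n+1}_Z`. -/
noncomputable def δJ (n : ℕ) : (Jf U).rightDerived n ⟶ (LocCohZ.sectSuppF U).rightDerived (n + 1) :=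
  Groth.Agent.FLES.δNat (sectSuppιNat U) (adjU U).unit (ι_unit_zero U) (ses_of_injective U) n

lemma isZero_id_rightDerived (F : CohTop.Ab X) (n : ℕ) :
    IsZero (((𝟭 (CohTop.Ab X)).rightDerived (n + 1)).obj F) :=
  Groth.Agent.FLES.isZero_rightDerived_of_exact (𝟭 (CohTop.Ab X)) F n

instance isIso_δJ_succ (n : ℕ) : IsIso (δJ U (n + 1)) := by
  have : ∀ F, IsIso ((δJ U (n + 1)).app F) := fun F =>
    Groth.Agent.FLES.isIso_δ (sectSuppιNat U) (adjU U).unit (ι_unit_zero U) (ses_of_injective U) (n + 1) F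
      (isZero_id_rightDerived F n) (isZero_id_rightDerived F (n + 1))
  exact NatIso.isIso_of_isIso_app _

instance pull_preservesFiniteColimits' : PreservesFiniteColimits (CohTop.pull (CohCx.incl U)) := by
  have : PreservesColimitsOfSize.{u, u} (CohTop.pull (CohCx.incl U)) :=
    (adjU U).leftAdjoint_preservesColimits
  infer_instance

lemma pull_injective (I : CohTop.Ab X) (hI : Injective I) :
    Injective ((CohTop.pull (CohCx.incl U)).obj I) :=
  Injective.of_iso ((pullIsoRestr U).app I).symm (restr_injective U I)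

/-- `ℋ^{i+1}_Z ≅ j⁻¹ ⋙ R^i j_*` for `i ≥ 1`. -/
noncomputable def HZshSuccIso (n : ℕ) :
    LocCohZ.HZsh U (n + 1 + 1) ≅ CohTop.pull (CohCx.incl U) ⋙ CohTop.Rpush (CohCx.incl U) (n + 1) :=
  (asIso (δJ U (n + 1))).symm ≪≫
    Groth.Agent.FLES.compIso (CohTop.pull (CohCx.incl U)) (pull_injective U)
      (CohTop.push (CohCx.incl U)) (n + 1)

/-- the boundary `j_* j⁻¹ ⟶ ℋ^1_Z`. -/
noncomputable def bd : Jf U ⟶ (LocCohZ.sectSuppF U).rightDerived 1 :=
  (Jf U).toRightDerivedZero ≫ δJ U 0

lemma unit_app_comp_bd (F : CohTop.Ab X) : (adjU U).unit.app F ≫ (bd U).app F = 0 := by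
  have h := Groth.Agent.FLES.toRightDerivedZero_natTrans (adjU U).unit F
  have h0 := Groth.Agent.FLES.rightDerived_comp_δ (sectSuppιNat U) (adjU U).unit (ι_unit_zero U)
    (ses_of_injective U) 0 F
  show (adjU U).unit.app F ≫ (Jf U).toRightDerivedZero.app F ≫ _ = 0
  rw [← Category.assoc, ← h, Category.assoc]
  erw [h0]
  rw [comp_zero]

lemma exact_unit_bd (F : CohTop.Ab X) :
    (ShortComplex.mk ((adjU U).unit.app F) ((bd U).app F) (unit_app_comp_bd U F)).Exact := by
  have hE := Groth.Agent.FLES.exact_rightDerived_δ (sectSuppιNat U) (adjU U).unit (ι_unit_zero U)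
    (ses_of_injective U) 0 F
  let φ : ShortComplex.mk ((adjU U).unit.app F) ((bd U).app F) (unit_app_comp_bd U F) ⟶
      ShortComplex.mk _ _ (Groth.Agent.FLES.rightDerived_comp_δ (sectSuppιNat U) (adjU U).unit
        (ι_unit_zero U) (ses_of_injective U) 0 F) :=
    { τ₁ := (𝟭 (CohTop.Ab X)).toRightDerivedZero.app F
      τ₂ := (Jf U).toRightDerivedZero.app F
      τ₃ := 𝟙 _
      comm₁₂ := Groth.Agent.FLES.toRightDerivedZero_natTrans (adjU U).unit F
      comm₂₃ := (Category.comp_id _).symm }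
  have : Epi φ.τ₁ := by dsimp [φ]; infer_instance
  have : IsIso φ.τ₂ := by dsimp [φ]; infer_instance
  have : Mono φ.τ₃ := by dsimp [φ]; infer_instance
  exact (ShortComplex.exact_iff_of_epi_of_isIso_of_mono φ).2 hE

lemma epi_bd (F : CohTop.Ab X) : Epi ((bd U).app F) := by
  have h := Groth.Agent.FLES.epi_δ (sectSuppιNat U) (adjU U).unit (ι_unit_zero U)
    (ses_of_injective U) 0 F (isZero_id_rightDerived F 0)
  have : IsIso ((Jf U).toRightDerivedZero.app F) := inferInstance
  show Epi ((Jf U).toRightDerivedZero.app F ≫ _)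
  exact epi_comp' inferInstance h

lemma unit_comp_bd : (adjU U).unit ≫ bd U = 0 := by
  apply NatTrans.ext
  funext F
  exact unit_app_comp_bd U F

/-- `coker(F ⟶ j_* j⁻¹ F) ⟶ ℋ^1_Z(F)` as a natural transformation. -/
noncomputable def descBd : cokernel (adjU U).unit ⟶ (LocCohZ.sectSuppF U).rightDerived 1 :=
  cokernel.desc (adjU U).unit (bd U) (unit_comp_bd U)

lemma π_descBd_app (F : CohTop.Ab X) :
    (cokernel.π (adjU U).unit).app F ≫ (descBd U).app F = (bd U).app F := by
  rw [← NatTrans.comp_app, descBd, cokernel.π_desc]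

lemma isIso_descBd_app (F : CohTop.Ab X) : IsIso ((descBd U).app F) := by
  have hepi : Epi ((descBd U).app F) := by
    have : Epi ((cokernel.π (adjU U).unit).app F ≫ (descBd U).app F) := by
      rw [π_descBd_app]
      exact epi_bd U F
    exact epi_of_epi ((cokernel.π (adjU U).unit).app F) _
  have hmono : Mono ((descBd U).app F) := by
    have hc : cokernelComparison (adjU U).unit ((evaluation (CohTop.Ab X) (CohTop.Ab X)).obj F) ≫
        (descBd U).app F =
        cokernel.desc ((adjU U).unit.app F) ((bd U).app F) (unit_app_comp_bd U F) := by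
      apply (cancel_epi (cokernel.π ((adjU U).unit.app F))).1
      rw [cokernel.π_desc]
      have h1 : cokernel.π ((adjU U).unit.app F) ≫
          cokernelComparison (adjU U).unit ((evaluation (CohTop.Ab X) (CohTop.Ab X)).obj F) =
          (cokernel.π (adjU U).unit).app F :=
        π_comp_cokernelComparison (adjU U).unit ((evaluation (CohTop.Ab X) (CohTop.Ab X)).obj F)
      refine ((Category.assoc _ _ _).symm.trans ?_)
      exact (congrArg (fun t => t ≫ (descBd U).app F) h1).trans (π_descBd_app U F)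
    have hm : Mono (cokernel.desc ((adjU U).unit.app F) ((bd U).app F) (unit_app_comp_bd U F)) :=
      (ShortComplex.exact_iff_mono_cokernel_desc _).1 (exact_unit_bd U F)
    have : (descBd U).app F =
        inv (cokernelComparison (adjU U).unit ((evaluation (CohTop.Ab X) (CohTop.Ab X)).obj F)) ≫
        cokernel.desc ((adjU U).unit.app F) ((bd U).app F) (unit_app_comp_bd U F) := by
      rw [← hc, IsIso.inv_hom_id_assoc]
    rw [this]
    exact mono_comp _ _
  exact isIso_of_mono_of_epi _

instance : IsIso (descBd U) := by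
  have := isIso_descBd_app U
  exact NatIso.isIso_of_isIso_app _

/-- `ℋ^1_Z ≅ coker(𝟭 ⟶ j_* j⁻¹)`. -/
noncomputable def HZshOneIso : LocCohZ.HZsh U 1 ≅ cokernel (adjU U).unit :=
  (asIso (descBd U)).symm

end Groth.Agent.GSS
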