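import Groth.Agent.Lib.GSS.E2

set_option autoImplicit false
universe w v u
open CategoryTheory CategoryTheory.Limits ComposableArrows Pretriangulated

namespace Groth.Agent.GSS

variable {A : Type u} [Category.{v} A] [Abelian A] [EnoughInjectives A] [HasDerivedCategory.{w} A]
  {B : Type u} [Category.{v} B] [Abelian B] (S : A ⥤ B) [S.Additive]

/-- the single object in degree `0` in `D⁺(A)`. -/
noncomputable abbrev sP (F : A) : DerivedCategory.Plus A := (DerivedCategory.Plus.singleFunctor A 0).obj F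

/-- the connecting morphism. -/
noncomputable def sesδ (T : ShortComplex A) (hT : T.ShortExact) :
    DerivedCategory.Plus.ι.obj (sP T.X₃) ⟶ DerivedCategory.Plus.ι.obj ((sP T.X₁)⟦(1 : ℤ)⟧) :=
  hT.singleδ ≫ (DerivedCategory.Plus.ι.commShiftIso (1 : ℤ)).inv.app (sP T.X₁)

/-- the distinguished triangle of `D⁺(A)` attached to a short exact sequence. -/
noncomputable def sesTriangle (T : ShortComplex A) (hT : T.ShortExact) : Triangle (DerivedCategory.Plus A) :=
  Triangle.mk ((DerivedCategory.Plus.singleFunctor A 0).map T.f) ((DerivedCategory.Plus.singleFunctor A 0).map T.g)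
    (DerivedCategory.Plus.ι.preimage (sesδ T hT))

omit [EnoughInjectives A] in
lemma sesTriangle_distinguished (T : ShortComplex A) (hT : T.ShortExact) :
    sesTriangle T hT ∈ distTriang (DerivedCategory.Plus A) := by
  show DerivedCategory.Plus.ι.mapTriangle.obj _ ∈ distTriang _
  refine isomorphic_distinguished _ hT.singleTriangle_distinguished _
    (Triangle.isoMk _ _ (Iso.refl _) (Iso.refl _) (Iso.refl _) ?_ ?_ ?_)
  · erw [Category.comp_id, Category.id_comp]
    rfl
  · erw [Category.comp_id, Category.id_comp]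
    rfl
  · erw [CategoryTheory.Functor.map_id, Category.comp_id]
    have h := DerivedCategory.Plus.ι.map_preimage (sesδ T hT)
    show DerivedCategory.Plus.ι.map (DerivedCategory.Plus.ι.preimage (sesδ T hT)) ≫
      (DerivedCategory.Plus.ι.commShiftIso (1 : ℤ)).hom.app (sP T.X₁) = _
    rw [h, sesδ, Category.assoc]
    have h2 : (DerivedCategory.Plus.ι.commShiftIso (1 : ℤ)).inv.app (sP T.X₁) ≫
        (DerivedCategory.Plus.ι.commShiftIso (1 : ℤ)).hom.app (sP T.X₁) = 𝟙 _ := Iso.inv_hom_id_app _ _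
    erw [h2, Category.comp_id, Category.id_comp]
    rfl

/-- `S`-acyclic objects. -/
def IsAcyc (F : A) : Prop := ∀ k : ℕ, IsZero ((S.rightDerived (k + 1)).obj F)

lemma isZero_HH_sP_iff (F : A) (k : ℕ) :
    IsZero ((HH S).obj ((sP F)⟦(k : ℤ)⟧)) ↔ IsZero ((S.rightDerived k).obj F) := by
  obtain ⟨e⟩ := HH_single_iso S (sP F) F (Iso.refl _) k
  exact ⟨fun h => IsZero.of_iso h e.symm, fun h => IsZero.of_iso h e⟩

/-- (ii): two-out-of-three for cokernels. -/
lemma isAcyc_X₃ (T : ShortComplex A) (hT : T.ShortExact) (h₁ : IsAcyc S T.X₁) (h₂ : IsAcyc S T.X₂) :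
    IsAcyc S T.X₃ := by
  intro k
  rw [← isZero_HH_sP_iff]
  have hex := (HH S).homologySequence_exact₃ _ (sesTriangle_distinguished T hT) ((k + 1 : ℕ) : ℤ) ((k + 2 : ℕ) : ℤ)
    (by push_cast; ring)
  have z1 : IsZero ((HH S).obj ((sP T.X₂)⟦((k + 1 : ℕ) : ℤ)⟧)) := (isZero_HH_sP_iff S _ _).2 (h₂ k)
  have z2 : IsZero ((HH S).obj ((sP T.X₁)⟦((k + 2 : ℕ) : ℤ)⟧)) := (isZero_HH_sP_iff S _ _).2 (h₁ (k + 1))
  exact hex.isZero_of_both_zeros (z1.eq_of_src _ _) (z2.eq_of_tgt _ _)

end Groth.Agent.GSS
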