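import Mathlib

set_option autoImplicit false
universe w v u
open CategoryTheory CategoryTheory.Limits HomologicalComplex

namespace Groth.Agent.GSS

variable {ι ι' : Type*} {c : ComplexShape ι} {c' : ComplexShape ι'}
  {C : Type*} [Category C] [HasZeroObject C] [Preadditive C]
  {D : Type*} [Category D] [HasZeroObject D] [Preadditive D]
  (F : C ⥤ D) [F.Additive]

/-- auxiliary isomorphism for `mapExtendIso`. -/
noncomputable def mapXIso (K : HomologicalComplex C c) : ∀ i : Option ι,
    F.obj (extend.X K i) ≅ extend.X ((F.mapHomologicalComplex c).obj K) i
  | some _ => Iso.refl _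
  | none => IsZero.iso (F.map_isZero (isZero_zero _)) (isZero_zero _)

lemma mapXIso_comm (K : HomologicalComplex C c) (i j : Option ι) :
    F.map (extend.d K i j) ≫ (mapXIso F K j).hom =
      (mapXIso F K i).hom ≫ extend.d ((F.mapHomologicalComplex c).obj K) i j :=
  match i, j with
  | none, _ => by
      simp only [extend.d_none_eq_zero, Functor.map_zero, zero_comp, comp_zero]
  | some i, some j => by
      dsimp [mapXIso, extend.d]
      erw [Category.comp_id, Category.id_comp]
      rfl
  | some _, none => by
      simp only [extend.d_none_eq_zero', Functor.map_zero, zero_comp, comp_zero]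

/-- an additive functor commutes with extension of complexes by zero. -/
noncomputable def mapExtendIso (K : HomologicalComplex C c) (e : c.Embedding c') :
    (F.mapHomologicalComplex c').obj (K.extend e) ≅ ((F.mapHomologicalComplex c).obj K).extend e :=
  Hom.isoOfComponents (fun i' => mapXIso F K (e.r i')) (fun i' j' _ => (mapXIso_comm F K _ _).symm)

end Groth.Agent.GSS

namespace Groth.Agent.GSS

variable {A : Type*} [Category A] [Abelian A] {B : Type*} [Category B] [Abelian B]
  (F : A ⥤ B) [F.Additive]

/-- homology of `F` applied to the `ℤ`-indexed extension of an `ℕ`-indexed cochain complex. -/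
noncomputable def homologyExtendIso (K : CochainComplex A ℕ) (n : ℕ) :
    ((F.mapHomologicalComplex (ComplexShape.up ℤ)).obj (K.extend ComplexShape.embeddingUpNat)).homology n ≅
      ((F.mapHomologicalComplex (ComplexShape.up ℕ)).obj K).homology n :=
  (HomologicalComplex.homologyFunctor B (ComplexShape.up ℤ) n).mapIso
      (mapExtendIso F K ComplexShape.embeddingUpNat) ≪≫
    HomologicalComplex.extendHomologyIso _ ComplexShape.embeddingUpNat (j := n) (j' := (n : ℤ)) rfl

end Groth.Agent.GSS
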