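import Groth.Agent.Lib.GSS.SpecObj
import Groth.Agent.Lib.GSS.Extend

set_option autoImplicit false
universe w v u
open CategoryTheory CategoryTheory.Limits ComposableArrows

namespace Groth.Agent.GSS

variable {A : Type u} [Category.{v} A] [Abelian A] [EnoughInjectives A] [HasDerivedCategory.{w} A]
  {B : Type u} [Category.{v} B] [Abelian B] (S : A ⥤ B) [S.Additive]

/-- `ℝ⁰S((F[0])⟦k⟧) ≅ RᵏS(F)`. -/
lemma HH_single_iso (K : DerivedCategory.Plus A) (F : A)
    (e : DerivedCategory.Plus.ι.obj K ≅ (DerivedCategory.singleFunctor A 0).obj F) (k : ℕ) :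
    Nonempty ((HH S).obj (K⟦(k : ℤ)⟧) ≅ (S.rightDerived k).obj F) := by
  let R := injectiveResolution F
  let e' : DerivedCategory.Q.obj R.cochainComplex ≅ DerivedCategory.Plus.ι.obj K :=
    (asIso (DerivedCategory.Q.map R.ι')).symm ≪≫ (DerivedCategory.singleFunctorIsoCompQ A 0).symm.app F ≪≫ e.symm
  exact ⟨HH_shift_iso S K R.cochainComplex 0 (fun i => inferInstance) e' k ≪≫
    homologyExtendIso S R.cocomplex k ≪≫ (R.isoRightDerivedObj S k).symm⟩

instance : (DerivedCategory.Plus.homologyFunctor A 0).IsHomological := by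
  dsimp only [DerivedCategory.Plus.homologyFunctor]
  infer_instance

end Groth.Agent.GSS

namespace Groth.Agent.GSS

variable {A : Type u} [Category.{v} A] [Abelian A] [EnoughInjectives A] [HasDerivedCategory.{w} A]

open DerivedCategory.Plus in
/-- Claim A: `H^q(Z) ≅ H^q(τ_{≥q} Z)`. -/
lemma isIso_homology_truncGEπ (Z : DerivedCategory.Plus A) (q : ℤ) :
    IsIso ((homologyFunctor A q).map ((tP.eTruncGEπ (q : EInt)).app Z)) := by
  have hT := tP.eTriangleLTGE_distinguished (q : EInt) Z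
  have : tP.IsLE ((tP.eTruncLT.obj (q : EInt)).obj Z) (q - 1) :=
    tP.isLE_eTruncLT_obj_obj (q - 1) q (by simp) Z
  have h1 : IsZero ((homologyFunctor A q).obj ((tP.eTruncLT.obj (q : EInt)).obj Z)) :=
    isZero_homology_of_isLE _ (q - 1) q (by omega)
  have h2 : IsZero ((homologyFunctor A (q + 1)).obj ((tP.eTruncLT.obj (q : EInt)).obj Z)) :=
    isZero_homology_of_isLE _ (q - 1) (q + 1) (by omega)
  have hm : Mono ((homologyFunctor A q).map ((tP.eTruncGEπ (q : EInt)).app Z)) :=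
    ((homologyFunctor A 0).homologySequence_exact₂ _ hT q).mono_g (h1.eq_of_src _ _)
  have he : Epi ((homologyFunctor A q).map ((tP.eTruncGEπ (q : EInt)).app Z)) :=
    ((homologyFunctor A 0).homologySequence_exact₃ _ hT q (q + 1) rfl).epi_f (h2.eq_of_tgt _ _)
  exact isIso_of_mono_of_epi _

open DerivedCategory.Plus in
/-- Claim B: `H^q(τ_{<q+1} X) ≅ H^q(X)`. -/
lemma isIso_homology_truncLTι (X : DerivedCategory.Plus A) (q : ℤ) :
    IsIso ((homologyFunctor A q).map ((tP.eTruncLTι ((q + 1 : ℤ) : EInt)).app X)) := by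
  have hT := tP.eTriangleLTGE_distinguished ((q + 1 : ℤ) : EInt) X
  have : tP.IsGE ((tP.eTruncGE.obj ((q + 1 : ℤ) : EInt)).obj X) (q + 1) :=
    tP.isGE_eTruncGE_obj_obj (q + 1) _ le_rfl X
  have h1 : IsZero ((homologyFunctor A q).obj ((tP.eTruncGE.obj ((q + 1 : ℤ) : EInt)).obj X)) :=
    isZero_homology_of_isGE _ (q + 1) q (by omega)
  have h2 : IsZero ((homologyFunctor A (q - 1)).obj ((tP.eTruncGE.obj ((q + 1 : ℤ) : EInt)).obj X)) :=
    isZero_homology_of_isGE _ (q + 1) (q - 1) (by omega)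
  have he : Epi ((homologyFunctor A q).map ((tP.eTruncLTι ((q + 1 : ℤ) : EInt)).app X)) :=
    ((homologyFunctor A 0).homologySequence_exact₂ _ hT q).epi_f (h1.eq_of_tgt _ _)
  have hm : Mono ((homologyFunctor A q).map ((tP.eTruncLTι ((q + 1 : ℤ) : EInt)).app X)) :=
    ((homologyFunctor A 0).homologySequence_exact₁ _ hT (q - 1) q (by omega)).mono_g (h2.eq_of_src _ _)
  exact isIso_of_mono_of_epi _

end Groth.Agent.GSS

namespace Groth.Agent.GSS

variable {A : Type u} [Category.{v} A] [Abelian A] [EnoughInjectives A] [HasDerivedCategory.{w} A]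
  {B : Type u} [Category.{v} B] [Abelian B] (S : A ⥤ B) [S.Additive]

/-- homology of a single object in the derived category. -/
noncomputable def homologySingleIso (F : A) (q : ℤ) :
    (DerivedCategory.homologyFunctor A q).obj ((DerivedCategory.singleFunctor A q).obj F) ≅ F :=
  (DerivedCategory.homologyFunctor A q).mapIso ((DerivedCategory.singleFunctorIsoCompQ A q).app F) ≪≫
    (DerivedCategory.homologyFunctorFactors A q).app _ ≪≫
    HomologicalComplex.singleObjHomologySelfIso (ComplexShape.up ℤ) q F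

lemma le_succ_coe (q : ℤ) : ((q : ℤ) : EInt) ≤ ((q + 1 : ℤ) : EInt) :=
  WithBotTop.coe_le_coe.2 (by omega)

/-- the `E₂`-identification. -/
lemma E2_iso (X : DerivedCategory.Plus A) (p : ℕ) (q : ℤ) :
    Nonempty (((specObj S X).H ((p : ℤ) + q)).obj (mk₁ (homOfLE (le_succ_coe q))) ≅
      (S.rightDerived p).obj ((DerivedCategory.Plus.homologyFunctor A q).obj X)) := by
  rw [specObj_H_obj]
  set Z := (tP.eTruncLT.obj ((q + 1 : ℤ) : EInt)).obj X with hZ
  set W := (tP.eTruncGE.obj (q : EInt)).obj Z with hW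
  have hZle : tP.IsLE Z q := tP.isLE_eTruncLT_obj_obj q _ le_rfl X
  have hWge : tP.IsGE W q := tP.isGE_eTruncGE_obj_obj q q le_rfl _
  have hWle : tP.IsLE W q := inferInstance
  have : W.IsGE q := hWge
  have : W.IsLE q := hWle
  obtain ⟨F, ⟨eF⟩⟩ := DerivedCategory.exists_iso_singleFunctor_obj_of_isGE_of_isLE
    (DerivedCategory.Plus.ι.obj W) q
  let e : DerivedCategory.Plus.ι.obj (W⟦q⟧) ≅ (DerivedCategory.singleFunctor A 0).obj F :=
    (DerivedCategory.Plus.ι.commShiftIso q).app W ≪≫ (shiftFunctor _ q).mapIso eF ≪≫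
      ((DerivedCategory.singleFunctors A).shiftIso q 0 q (by simp)).app F
  obtain ⟨e1⟩ := HH_single_iso S (W⟦q⟧) F e p
  have e2 : W⟦(p : ℤ) + q⟧ ≅ (W⟦q⟧)⟦(p : ℤ)⟧ :=
    (shiftFunctorAdd' _ q (p : ℤ) ((p : ℤ) + q) (by omega)).app W
  have := isIso_homology_truncGEπ Z q
  have := isIso_homology_truncLTι X q
  let e3 : F ≅ (DerivedCategory.Plus.homologyFunctor A q).obj X :=
    (homologySingleIso F q).symm ≪≫ (DerivedCategory.homologyFunctor A q).mapIso eF.symm ≪≫
      (asIso ((DerivedCategory.Plus.homologyFunctor A q).map ((tP.eTruncGEπ (q : EInt)).app Z))).symm ≪≫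
      asIso ((DerivedCategory.Plus.homologyFunctor A q).map ((tP.eTruncLTι ((q + 1 : ℤ) : EInt)).app X))
  exact ⟨(HH S).mapIso e2 ≪≫ e1 ≪≫ (S.rightDerived p).mapIso e3⟩

end Groth.Agent.GSS
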