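import Mathlib

set_option autoImplicit false
universe v v' u u'
open CategoryTheory CategoryTheory.Limits

namespace Groth.Agent.GSS

variable {A : Type u} [Category.{v} A] [Abelian A] [HasInjectiveResolutions A]
  {B : Type u'} [Category.{v'} B] [Abelian B] (S : A ⥤ B) [S.Additive] [PreservesFiniteLimits S]

/-- (i): if `R¹S(X₁) = 0` then `S` preserves the epimorphism of a short exact sequence. -/
theorem epi_map_g_of_isZero_rightDerived_one (T : ShortComplex A) (hT : T.ShortExact)
    (h : IsZero ((S.rightDerived 1).obj T.X₁)) : Epi (S.map T.g) := by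
  have := hT.mono_f
  have := hT.epi_g
  let R := injectiveResolution T.X₁
  let ε : T.X₁ ⟶ R.cocomplex.X 0 := R.ι.f 0
  have hε : Mono ε := mono_of_isLimit_fork R.isLimitKernelFork
  have hεd : ε ≫ R.cocomplex.d 0 1 = 0 := R.ι_f_zero_comp_complex_d
  have hex0 : (ShortComplex.mk ε (R.cocomplex.d 0 1) hεd).Exact := R.exact₀
  let φ : T.X₂ ⟶ R.cocomplex.X 0 := Injective.factorThru ε T.f
  have hφ : T.f ≫ φ = ε := Injective.comp_factorThru _ _
  let ψ : T.X₃ ⟶ R.cocomplex.X 1 := hT.exact.desc (φ ≫ R.cocomplex.d 0 1)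
    (by rw [← Category.assoc, hφ, hεd])
  have hψ : T.g ≫ ψ = φ ≫ R.cocomplex.d 0 1 := hT.exact.g_desc _ _
  have hψd : ψ ≫ R.cocomplex.d 1 2 = 0 := by
    rw [← cancel_epi T.g, ← Category.assoc, hψ, Category.assoc, R.cocomplex.d_comp_d, comp_zero, comp_zero]
  -- exactness of `S I⁰ → S I¹ → S I²`
  have hE : ((S.mapHomologicalComplex _).obj R.cocomplex).ExactAt 1 := by
    rw [HomologicalComplex.exactAt_iff_isZero_homology]
    exact IsZero.of_iso h (R.isoRightDerivedObj S 1).symm
  have hex1 : (ShortComplex.mk (S.map (R.cocomplex.d 0 1)) (S.map (R.cocomplex.d 1 2))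
      (by rw [← S.map_comp, R.cocomplex.d_comp_d, S.map_zero])).Exact := by
    rw [HomologicalComplex.exactAt_iff' _ 0 1 2 (by simp) (by simp only [CochainComplex.next]; rfl)] at hE
    exact hE
  -- the pullback
  let c : T.X₂ ⟶ pullback (R.cocomplex.d 0 1) ψ := pullback.lift φ T.g hψ.symm
  have hc1 : c ≫ pullback.fst _ _ = φ := pullback.lift_fst _ _ _
  have hc2 : c ≫ pullback.snd _ _ = T.g := pullback.lift_snd _ _ _
  have hcm : Mono c := by
    refine Preadditive.mono_of_cancel_zero _ (fun {W} w hw => ?_)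
    have hw1 : w ≫ φ = 0 := by rw [← hc1, ← Category.assoc, hw, zero_comp]
    have hw2 : w ≫ T.g = 0 := by rw [← hc2, ← Category.assoc, hw, zero_comp]
    have hw3 : hT.exact.lift w hw2 ≫ T.f = w := hT.exact.lift_f _ _
    have hw4 : hT.exact.lift w hw2 ≫ ε = 0 := by
      rw [← hφ, ← Category.assoc, hw3, hw1]
    have hw5 : hT.exact.lift w hw2 = 0 := by
      rw [← cancel_mono ε, hw4, zero_comp]
    rw [← hw3, hw5, zero_comp]
  have hce : Epi c := by
    rw [epi_iff_surjective_up_to_refinements]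
    intro W y
    obtain ⟨W₁, π₁, hπ₁, x₂, hx₂⟩ := surjective_up_to_refinements_of_epi T.g (y ≫ pullback.snd _ _)
    let u : W₁ ⟶ R.cocomplex.X 0 := π₁ ≫ y ≫ pullback.fst _ _ - x₂ ≫ φ
    have hu : u ≫ R.cocomplex.d 0 1 = 0 := by
      dsimp only [u]
      rw [Preadditive.sub_comp, Category.assoc, Category.assoc, pullback.condition, Category.assoc,
        ← hψ, ← Category.assoc x₂, ← hx₂, Category.assoc, Category.assoc, sub_self]
    obtain ⟨W₂, π₂, hπ₂, x₁, hx₁⟩ := hex0.exact_up_to_refinements u hu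
    refine ⟨W₂, π₂ ≫ π₁, epi_comp _ _, π₂ ≫ x₂ + x₁ ≫ T.f, ?_⟩
    apply pullback.hom_ext
    · rw [Category.assoc, Category.assoc, Category.assoc, hc1, Preadditive.add_comp, Category.assoc, Category.assoc, hφ]
      change _ = _ + x₁ ≫ ε
      rw [← hx₁]
      dsimp only [u]
      rw [Preadditive.comp_sub]
      abel
    · rw [Category.assoc, Category.assoc, Category.assoc, hc2, Preadditive.add_comp, Category.assoc, Category.assoc,
        T.zero, comp_zero, add_zero, hx₂]
  have hci : IsIso c := isIso_of_mono_of_epi c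
  have hpb : IsPullback (S.map (pullback.fst (R.cocomplex.d 0 1) ψ)) (S.map (pullback.snd (R.cocomplex.d 0 1) ψ))
      (S.map (R.cocomplex.d 0 1)) (S.map ψ) := (IsPullback.of_hasPullback _ _).map S
  have hsnd : Epi (S.map (pullback.snd (R.cocomplex.d 0 1) ψ)) := by
    rw [epi_iff_surjective_up_to_refinements]
    intro W a
    have ha : (a ≫ S.map ψ) ≫ S.map (R.cocomplex.d 1 2) = 0 := by
      rw [Category.assoc, ← S.map_comp, hψd, S.map_zero, comp_zero]
    obtain ⟨W', π, hπ, b, hb⟩ := hex1.exact_up_to_refinements (a ≫ S.map ψ) ha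
    exact ⟨W', π, hπ, hpb.lift b (π ≫ a) (by rw [Category.assoc, ← hb]), (hpb.lift_snd _ _ _).symm⟩
  rw [← hc2, S.map_comp]
  exact epi_comp _ _

end Groth.Agent.GSS
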