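import Mathlib
import Groth.Agent.Lib.ExtRes

/-! `Ext^n(P, -)` is the `n`-th right derived functor of `Hom(P, -)` (objectwise). -/

set_option autoImplicit false
universe w v u
open CategoryTheory CategoryTheory.Limits Abelian

namespace Groth.Agent.GSS

variable {𝒜 : Type u} [Category.{v} 𝒜] [Abelian 𝒜] [HasExt.{w} 𝒜] [EnoughInjectives 𝒜]

theorem nonempty_rightDerived_iso_ext
    (Γ : 𝒜 ⥤ AddCommGrpCat.{w}) [Γ.Additive] [PreservesFiniteLimits Γ] (P : 𝒜)
    (e : ∀ F : 𝒜, (P ⟶ F) ≃+ Γ.obj F)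
    (he : ∀ {F G : 𝒜} (a : P ⟶ F) (φ : F ⟶ G), e G (a ≫ φ) = Γ.map φ (e F a))
    (n : ℕ) (F : 𝒜) : Nonempty ((Γ.rightDerived n).obj F ≅ AddCommGrpCat.of (Ext P F n)) := by
  cases n with
  | zero =>
    refine ⟨(Γ.rightDerivedZeroIsoSelf).app F ≪≫ (AddEquiv.toAddCommGrpIso ?_)⟩
    exact (e F).symm.trans Ext.addEquiv₀.symm
  | succ n =>
    let R := InjectiveResolution.of F
    let K := (Γ.mapHomologicalComplex _).obj R.cocomplex
    let S := K.sc' n (n + 1) (n + 2)
    have e1 : (Γ.rightDerived (n + 1)).obj F ≅ S.homology :=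
      R.isoRightDerivedObj Γ (n + 1) ≪≫ K.homologyIsoSc' n (n + 1) (n + 2) (by simp) (by simp)
    have e2 := S.abHomologyIso
    -- the map from cocycles
    let ψ : ExtRes.Z R P (n + 1) →+ AddMonoidHom.ker S.g.hom :=
      { toFun := fun f => ⟨e _ f.1, by
          rw [AddMonoidHom.mem_ker]
          show (Γ.map (R.cocomplex.d (n + 1) (n + 2))) (e _ f.1) = 0
          rw [← he, (ExtRes.mem_Z R (n + 1) f.1).1 f.2, map_zero]⟩
        map_zero' := Subtype.ext (map_zero (e _))
        map_add' := fun f g => Subtype.ext (map_add (e _) f.1 g.1) }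
    have hψ : Function.Surjective ψ := by
      rintro ⟨y, hy⟩
      refine ⟨⟨(e _).symm y, ?_⟩, ?_⟩
      · rw [ExtRes.mem_Z]
        apply (e _).injective
        rw [he, AddEquiv.apply_symm_apply, map_zero]
        exact hy
      · ext
        simp [ψ]
    let φ : ExtRes.Z R P (n + 1) →+ (AddMonoidHom.ker S.g.hom) ⧸ AddMonoidHom.range S.abToCycles :=
      (QuotientAddGroup.mk' _).comp ψ
    have hφ : Function.Surjective φ := (QuotientAddGroup.mk'_surjective _).comp hψ
    obtain ⟨e3⟩ := ExtRes.nonempty_addEquiv_of_surjective R (X := P) n φ hφ (by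
      intro f
      show (QuotientAddGroup.mk' _ (ψ f)) = 0 ↔ _
      rw [QuotientAddGroup.mk'_apply, QuotientAddGroup.eq_zero_iff, AddMonoidHom.mem_range]
      constructor
      · rintro ⟨y, hy⟩
        refine ⟨(e _).symm y, ?_⟩
        apply (e _).injective
        rw [he, AddEquiv.apply_symm_apply]
        exact congrArg Subtype.val hy
      · rintro ⟨g, hg⟩
        refine ⟨e _ g, ?_⟩
        ext
        show (Γ.map (R.cocomplex.d n (n + 1))) (e _ g) = e _ f.1
        rw [← he, hg])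
    exact ⟨e1 ≪≫ e2 ≪≫ (AddEquiv.toAddCommGrpIso e3.symm)⟩

end Groth.Agent.GSS
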