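import Mathlib

/-! Long exact sequence of right derived functors for a sequence of functors `T ⟶ H ⟶ G`
which is short exact on injective objects. -/

set_option autoImplicit false
universe v v' u u'
open CategoryTheory CategoryTheory.Limits

namespace Groth.Agent.FLES

variable {𝒜 : Type u} [Category.{v} 𝒜] [Abelian 𝒜] [HasInjectiveResolutions 𝒜]
  {ℬ : Type u'} [Category.{v'} ℬ] [Abelian ℬ]
  {T H G : 𝒜 ⥤ ℬ} [T.Additive] [H.Additive] [G.Additive] (α : T ⟶ H) (β : H ⟶ G)
  (w : ∀ X : 𝒜, α.app X ≫ β.app X = 0)

/-- the short complex of complexes `T K ⟶ H K ⟶ G K`. -/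
noncomputable def sc (K : CochainComplex 𝒜 ℕ) : ShortComplex (CochainComplex ℬ ℕ) :=
  ShortComplex.mk ((NatTrans.mapHomologicalComplex α (ComplexShape.up ℕ)).app K)
    ((NatTrans.mapHomologicalComplex β (ComplexShape.up ℕ)).app K) (by
      ext n
      simp only [HomologicalComplex.comp_f, NatTrans.mapHomologicalComplex_app_f,
        HomologicalComplex.zero_f]
      exact w (K.X n))

variable (hex : ∀ Q : 𝒜, Injective Q → (ShortComplex.mk (α.app Q) (β.app Q) (w Q)).ShortExact)

include hex in
lemma sc_shortExact (K : CochainComplex 𝒜 ℕ) (hK : ∀ n, Injective (K.X n)) :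
    (sc α β w K).ShortExact := by
  apply HomologicalComplex.shortExact_of_degreewise_shortExact
  intro n
  exact hex (K.X n) (hK n)

/-- functoriality of `sc`. -/
noncomputable def scMap {K L : CochainComplex 𝒜 ℕ} (φ : K ⟶ L) : sc α β w K ⟶ sc α β w L where
  τ₁ := (T.mapHomologicalComplex _).map φ
  τ₂ := (H.mapHomologicalComplex _).map φ
  τ₃ := (G.mapHomologicalComplex _).map φ
  comm₁₂ := by
    ext n
    simp [sc]
  comm₂₃ := by
    ext n
    simp [sc]

lemma rel (n : ℕ) : (ComplexShape.up ℕ).Rel n (n + 1) := rfl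

/-- the connecting morphism on the level of complexes, with convenient types. -/
noncomputable def dC (K : CochainComplex 𝒜 ℕ) (hK : ∀ n, Injective (K.X n)) (n : ℕ) :
    (HomologicalComplex.homologyFunctor ℬ (ComplexShape.up ℕ) n).obj
        ((G.mapHomologicalComplex (ComplexShape.up ℕ)).obj K) ⟶
      (HomologicalComplex.homologyFunctor ℬ (ComplexShape.up ℕ) (n + 1)).obj
        ((T.mapHomologicalComplex (ComplexShape.up ℕ)).obj K) :=
  (sc_shortExact α β w hex K hK).δ n (n + 1) (rel n)

lemma dC_natural {K L : CochainComplex 𝒜 ℕ} (hK : ∀ n, Injective (K.X n))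
    (hL : ∀ n, Injective (L.X n)) (φ : K ⟶ L) (n : ℕ) :
    (G.mapHomologicalComplex (ComplexShape.up ℕ) ⋙
        HomologicalComplex.homologyFunctor ℬ (ComplexShape.up ℕ) n).map φ ≫ dC α β w hex L hL n =
      dC α β w hex K hK n ≫ (T.mapHomologicalComplex (ComplexShape.up ℕ) ⋙
        HomologicalComplex.homologyFunctor ℬ (ComplexShape.up ℕ) (n + 1)).map φ :=
  (HomologicalComplex.HomologySequence.δ_naturality (scMap α β w φ)
    (sc_shortExact α β w hex K hK) (sc_shortExact α β w hex L hL) n (n + 1) (rel n)).symm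

lemma map_comp_dC (K : CochainComplex 𝒜 ℕ) (hK : ∀ n, Injective (K.X n)) (n : ℕ) :
    (HomologicalComplex.homologyFunctor ℬ (ComplexShape.up ℕ) n).map
      ((NatTrans.mapHomologicalComplex β (ComplexShape.up ℕ)).app K) ≫ dC α β w hex K hK n = 0 :=
  (sc_shortExact α β w hex K hK).comp_δ n (n + 1) (rel n)

lemma exact_map_dC (K : CochainComplex 𝒜 ℕ) (hK : ∀ n, Injective (K.X n)) (n : ℕ) :
    (ShortComplex.mk _ _ (map_comp_dC α β w hex K hK n)).Exact :=
  (sc_shortExact α β w hex K hK).homology_exact₃ n (n + 1) (rel n)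

lemma isIso_dC (K : CochainComplex 𝒜 ℕ) (hK : ∀ n, Injective (K.X n)) (n : ℕ)
    (h1 : IsZero ((HomologicalComplex.homologyFunctor ℬ (ComplexShape.up ℕ) n).obj
      ((H.mapHomologicalComplex (ComplexShape.up ℕ)).obj K)))
    (h2 : IsZero ((HomologicalComplex.homologyFunctor ℬ (ComplexShape.up ℕ) (n + 1)).obj
      ((H.mapHomologicalComplex (ComplexShape.up ℕ)).obj K))) :
    IsIso (dC α β w hex K hK n) :=
  (sc_shortExact α β w hex K hK).isIso_δ n (n + 1) (rel n) h1 h2

lemma epi_dC (K : CochainComplex 𝒜 ℕ) (hK : ∀ n, Injective (K.X n)) (n : ℕ)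
    (h2 : IsZero ((HomologicalComplex.homologyFunctor ℬ (ComplexShape.up ℕ) (n + 1)).obj
      ((H.mapHomologicalComplex (ComplexShape.up ℕ)).obj K))) :
    Epi (dC α β w hex K hK n) :=
  (sc_shortExact α β w hex K hK).epi_δ n (n + 1) (rel n) h2

/-- the connecting morphism `RⁿG(F) ⟶ Rⁿ⁺¹T(F)`. -/
noncomputable def δ (n : ℕ) (F : 𝒜) : (G.rightDerived n).obj F ⟶ (T.rightDerived (n + 1)).obj F :=
  ((injectiveResolution F).isoRightDerivedObj G n).hom ≫
    dC α β w hex _ (injectiveResolution F).injective n ≫
    ((injectiveResolution F).isoRightDerivedObj T (n + 1)).inv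

lemma δ_natural (n : ℕ) {F F' : 𝒜} (f : F ⟶ F') :
    (G.rightDerived n).map f ≫ δ α β w hex n F' =
      δ α β w hex n F ≫ (T.rightDerived (n + 1)).map f := by
  have comm : (injectiveResolution F).ι.f 0 ≫
      (InjectiveResolution.desc f (injectiveResolution F') (injectiveResolution F)).f 0 =
        f ≫ (injectiveResolution F').ι.f 0 :=
    InjectiveResolution.desc_commutes_zero f _ _
  have h1 := InjectiveResolution.isoRightDerivedObj_hom_naturality f (injectiveResolution F)
    (injectiveResolution F') _ comm G n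
  have h2 := InjectiveResolution.isoRightDerivedObj_inv_naturality f (injectiveResolution F)
    (injectiveResolution F') _ comm T (n + 1)
  have h3 := dC_natural α β w hex (injectiveResolution F).injective (injectiveResolution F').injective
    (InjectiveResolution.desc f (injectiveResolution F') (injectiveResolution F)) n
  unfold δ
  rw [← Category.assoc, h1, Category.assoc, Category.assoc, Category.assoc, h2,
    ← Category.assoc (dC α β w hex _ _ n), ← h3, Category.assoc]

/-- the connecting morphism as a natural transformation. -/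
noncomputable def δNat (n : ℕ) : G.rightDerived n ⟶ T.rightDerived (n + 1) where
  app F := δ α β w hex n F
  naturality _ _ f := δ_natural α β w hex n f

lemma isIso_δ (n : ℕ) (F : 𝒜) (h1 : IsZero ((H.rightDerived n).obj F))
    (h2 : IsZero ((H.rightDerived (n + 1)).obj F)) : IsIso (δ α β w hex n F) := by
  have := isIso_dC α β w hex _ (injectiveResolution F).injective n
    (IsZero.of_iso h1 ((injectiveResolution F).isoRightDerivedObj H n).symm)
    (IsZero.of_iso h2 ((injectiveResolution F).isoRightDerivedObj H (n + 1)).symm)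
  unfold δ
  infer_instance

lemma epi_δ (n : ℕ) (F : 𝒜) (h2 : IsZero ((H.rightDerived (n + 1)).obj F)) :
    Epi (δ α β w hex n F) := by
  have := epi_dC α β w hex _ (injectiveResolution F).injective n
    (IsZero.of_iso h2 ((injectiveResolution F).isoRightDerivedObj H (n + 1)).symm)
  unfold δ
  exact epi_comp' inferInstance (epi_comp' this inferInstance)

lemma rightDerived_comp_δ (n : ℕ) (F : 𝒜) :
    (NatTrans.rightDerived β n).app F ≫ δ α β w hex n F = 0 := by
  rw [InjectiveResolution.rightDerived_app_eq β (injectiveResolution F) n]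
  unfold δ
  rw [Category.assoc, Category.assoc, Iso.inv_hom_id_assoc,
    reassoc_of% (map_comp_dC α β w hex _ (injectiveResolution F).injective n), zero_comp, comp_zero]

lemma exact_rightDerived_δ (n : ℕ) (F : 𝒜) :
    (ShortComplex.mk _ _ (rightDerived_comp_δ α β w hex n F)).Exact := by
  have hE := exact_map_dC α β w hex _ (injectiveResolution F).injective n
  refine (ShortComplex.exact_iff_of_iso ?_).2 hE
  refine ShortComplex.isoMk ((injectiveResolution F).isoRightDerivedObj H n)
    ((injectiveResolution F).isoRightDerivedObj G n)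
    ((injectiveResolution F).isoRightDerivedObj T (n + 1)) ?_ ?_
  · dsimp
    rw [InjectiveResolution.rightDerived_app_eq β (injectiveResolution F) n, Category.assoc,
      Category.assoc, Iso.inv_hom_id, Category.comp_id]
  · dsimp
    unfold δ
    rw [Category.assoc, Category.assoc, Iso.inv_hom_id, Category.comp_id]

end Groth.Agent.FLES
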