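import Groth.Agent.Lib.GSS.SectSuppLES

set_option autoImplicit false
universe u
open CategoryTheory CategoryTheory.Limits Opposite Abelian TopologicalSpace

namespace Groth.Agent.GSS

open Groth.Agent.CohTopBasics

variable {X : TopCat.{u}}

lemma ext_cokernel_freeMap_eq_zero (F : CohTop.Ab X) [TopCat.Sheaf.IsFlasque F] {W V : Opens X}
    (h : W ≤ V)
    (hS : (ShortComplex.mk (freeMap h) (cokernel.π (freeMap h)) (cokernel.condition _)).ShortExact)
    (j : ℕ) (x₃ : Ext (cokernel (freeMap h)) F (j + 1)) : x₃ = 0 := by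
  have h0 : (Ext.mk₀ (cokernel.π (freeMap h))).comp x₃ (zero_add (j + 1)) = 0 :=
    ext_freeSheaf_eq_zero_of_isFlasque V j F _
  obtain ⟨x₁, rfl⟩ := Ext.contravariant_sequence_exact₃ hS F x₃ h0 (show 1 + j = j + 1 by omega)
  cases j with
  | zero =>
    obtain ⟨a, rfl⟩ := (Ext.mk₀_bijective _ _).surjective x₁
    have hepi : Epi (F.obj.map (homOfLE h).op) := TopCat.Presheaf.IsFlasque.epi _
    rw [AddCommGrpCat.epi_iff_surjective] at hepi
    obtain ⟨t, ht⟩ := hepi (secEquiv W F a)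
    have ha : a = freeMap h ≫ (secEquiv V F).symm t := by
      apply (secEquiv W F).injective
      rw [secEquiv_freeMap h, Equiv.apply_symm_apply, ht]
    have := hS.extClass_comp_assoc (Ext.mk₀ ((secEquiv V F).symm t)) (h := (show 1 + 0 = 0 + 1 by omega))
    rw [ha, ← Ext.mk₀_comp_mk₀]
    exact this
  | succ j =>
    have hx : x₁ = 0 := ext_freeSheaf_eq_zero_of_isFlasque W j F x₁
    rw [hx, Ext.comp_zero]


lemma isFlasque_of_ext_one_subsingleton (F : CohTop.Ab X)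
    (h : ∀ U : Opens X, Subsingleton (Ext (cokernel (freeMap (le_top : U ≤ ⊤))) F 1))
    (hS : ∀ U : Opens X, (ShortComplex.mk (freeMap (le_top : U ≤ ⊤))
      (cokernel.π (freeMap (le_top : U ≤ ⊤))) (cokernel.condition _)).ShortExact) :
    TopCat.Sheaf.IsFlasque F := by
  refine ⟨fun {V W} i => ?_⟩
  rw [AddCommGrpCat.epi_iff_surjective]
  intro s
  obtain ⟨V⟩ := V
  obtain ⟨W⟩ := W
  have := h W
  obtain ⟨x₂, hx₂⟩ := Ext.contravariant_sequence_exact₁ (hS W) F
    (Ext.mk₀ ((secEquiv W F).symm s)) (show 1 + 0 = 1 by rfl) (Subsingleton.elim _ _)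
  obtain ⟨b, rfl⟩ := (Ext.mk₀_bijective _ _).surjective x₂
  rw [Ext.mk₀_comp_mk₀] at hx₂
  have hb : freeMap (le_top : W ≤ ⊤) ≫ b = (secEquiv W F).symm s :=
    (Ext.mk₀_bijective _ _).injective hx₂
  refine ⟨F.obj.map (homOfLE (le_top : V ≤ ⊤)).op (secEquiv ⊤ F b), ?_⟩
  rw [← ConcreteCategory.comp_apply, ← F.obj.map_comp]
  have : (homOfLE (le_top : V ≤ ⊤)).op ≫ i = (homOfLE (le_top : W ≤ ⊤)).op := Subsingleton.elim _ _
  rw [this, ← secEquiv_freeMap, hb, Equiv.apply_symm_apply]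

end Groth.Agent.GSS
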