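import Groth.Agent.Lib.GSS.Main

set_option autoImplicit false
universe v u
open CategoryTheory CategoryTheory.Limits
open scoped ZeroObject

namespace Groth.Agent.GSS

lemma enoughInjectives_of_hasInjectiveResolutions (C : Type u) [Category.{v} C] [Abelian C]
    [HasInjectiveResolutions C] : EnoughInjectives C where
  presentation X :=
    ⟨{ J := (injectiveResolution X).cocomplex.X 0
       injective := inferInstance
       f := (injectiveResolution X).ι.f 0
       mono := mono_of_isLimit_fork (injectiveResolution X).isLimitKernelFork }⟩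

/-- **Grothendieck spectral sequence** for the composite of two functors (general form). -/
theorem grothendieck {C C' C'' : Type u} [Category.{v} C] [Category.{v} C'] [Category.{v} C'']
    [Abelian C] [Abelian C'] [Abelian C''] [HasInjectiveResolutions C] [HasInjectiveResolutions C']
    (T : C ⥤ C') [T.Additive] (S : C' ⥤ C'') [S.Additive] [PreservesFiniteLimits S]
    (hT : ∀ Q : C, Injective Q → ∀ q : ℕ, 0 < q → IsZero ((S.rightDerived q).obj (T.obj Q))) (A : C)
    (H' : ℤ → C'') (hH : ∀ n : ℕ, Nonempty (H' n ≅ ((T ⋙ S).rightDerived n).obj A))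
    (hH0 : ∀ n : ℤ, n < 0 → IsZero (H' n))
    (E2 : ℤ → ℤ → C'')
    (hE2 : ∀ (p q : ℕ), Nonempty (E2 p q ≅ (S.rightDerived p).obj ((T.rightDerived q).obj A)))
    (hE20 : ∀ p q : ℤ, (p < 0 ∨ q < 0) → IsZero (E2 p q)) :
    ∃ (E : E₂CohomologicalSpectralSequence C'') (a : SpSeq.Abutment E H'),
      (∀ n, a.IsFinite n) ∧ SpSeq.IsBounded E ∧
      ∀ p q : ℤ, Nonempty ((E.page 2 le_rfl).X (p, q) ≅ E2 p q) := by
  have : EnoughInjectives C' := enoughInjectives_of_hasInjectiveResolutions C'
  let _ : HasDerivedCategory C' := HasDerivedCategory.standard C'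
  let I := injectiveResolution A
  let Kn : CochainComplex C' ℕ := (T.mapHomologicalComplex _).obj I.cocomplex
  let K : CochainComplex C' ℤ := Kn.extend ComplexShape.embeddingUpNat
  have : K.IsStrictlyGE 0 := by dsimp [K]; infer_instance
  have hK : ∀ i, IsAcyc S (K.X i) := by
    intro i
    by_cases hi : 0 ≤ i
    · obtain ⟨m, rfl⟩ := Int.eq_ofNat_of_zero_le hi
      refine isAcyc_of_iso S (Kn.extendXIso ComplexShape.embeddingUpNat (i := m) rfl).symm ?_
      intro k
      exact hT _ (I.injective m) _ (Nat.succ_pos k)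
    · exact isAcyc_of_isZero S _ (CochainComplex.isZero_of_isStrictlyGE K 0 i (by omega))
  refine main S K hK H' ?_ hH0 E2 ?_ hE20
  · intro n hn
    obtain ⟨m, rfl⟩ := Int.eq_ofNat_of_zero_le hn
    obtain ⟨e1⟩ := hH m
    refine ⟨e1 ≪≫ I.isoRightDerivedObj (T ⋙ S) m ≪≫ ?_ ≪≫ (homologyExtendIso S Kn m).symm⟩
    exact Iso.refl _
  · intro p q hq
    obtain ⟨m, rfl⟩ := Int.eq_ofNat_of_zero_le hq
    obtain ⟨e1⟩ := hE2 p m
    refine ⟨e1 ≪≫ (S.rightDerived p).mapIso (I.isoRightDerivedObj T m ≪≫
      (HomologicalComplex.extendHomologyIso Kn ComplexShape.embeddingUpNat (j := m) (j' := (m : ℤ)) rfl).symm)⟩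

end Groth.Agent.GSS
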