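import Mathlib

set_option autoImplicit false
universe w v u
open CategoryTheory CategoryTheory.Limits

namespace Groth.Agent.GSS

variable {A : Type u} [Category.{v} A] [Abelian A] [EnoughInjectives A] [HasDerivedCategory.{w} A]
  {B : Type u} [Category.{v} B] [Abelian B] (S : A ⥤ B) [S.Additive]

/-- `H⁰(S(-))` on the bounded below homotopy category. -/
noncomputable def G₀ : HomotopyCategory.Plus A ⥤ B :=
  S.mapHomotopyCategoryPlus ⋙ HomotopyCategory.Plus.ι B ⋙ HomotopyCategory.homologyFunctor B (ComplexShape.up ℤ) 0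

instance : (G₀ S).IsHomological := by
  dsimp only [G₀]
  infer_instance

/-- the hyper-derived functor `ℝ⁰S : D⁺(A) ⥤ B`. -/
noncomputable def HH : DerivedCategory.Plus A ⥤ B :=
  (G₀ S).totalRightDerived DerivedCategory.Plus.Qh (HomotopyCategory.Plus.quasiIso A)

noncomputable def HHunit : G₀ S ⟶ DerivedCategory.Plus.Qh ⋙ HH S :=
  (G₀ S).totalRightDerivedUnit DerivedCategory.Plus.Qh (HomotopyCategory.Plus.quasiIso A)

instance : (HH S).IsRightDerivedFunctor (HHunit S) (HomotopyCategory.Plus.quasiIso A) := by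
  dsimp only [HH, HHunit]
  infer_instance

instance (K : HomotopyCategory.Plus A) [∀ (n : ℤ), Injective (K.obj.as.X n)] :
    IsIso ((HHunit S).app K) := by
  infer_instance

/-- the functor `K⁺(Inj A) ⥤ D⁺(A)`. -/
noncomputable abbrev Φ : HomotopyCategory.Plus (InjectiveObject A) ⥤ DerivedCategory.Plus A :=
  (InjectiveObject.ι A).mapHomotopyCategoryPlus ⋙ DerivedCategory.Plus.Qh

instance : (Φ (A := A)).Full where
  map_surjective {X Y} f := by
    have hK : CochainComplex.IsKInjective
        (((InjectiveObject.ι A).mapHomotopyCategoryPlus.obj Y).1.as) := by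
      obtain ⟨Y, hY⟩ := Y
      obtain ⟨Y, rfl⟩ := HomotopyCategory.quotient_obj_surjective Y
      obtain ⟨n, hn⟩ := (HomotopyCategory.plus_quotient_obj_iff _).mp hY
      let L : CochainComplex A ℤ := ((InjectiveObject.ι A).mapHomologicalComplex (ComplexShape.up ℤ)).obj Y
      have : ∀ i, Injective (L.X i) := fun i => (Y.X i).property
      have : L.IsStrictlyGE n := by
        rwa [CochainComplex.isStrictlyGE_mapHomologicalComplex_obj_iff]
      exact CochainComplex.isKInjective_of_injective L n
    obtain ⟨g, hg⟩ := (DerivedCategory.Plus.Qh_map_bijective_of_isKInjective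
      ((InjectiveObject.ι A).mapHomotopyCategoryPlus.obj X) _ hK).2 f
    obtain ⟨h, rfl⟩ := (InjectiveObject.ι A).mapHomotopyCategoryPlus.map_surjective g
    exact ⟨h, hg⟩

instance : (Φ (A := A)).IsTriangulated := by
  infer_instance

instance : IsIso (Functor.whiskerLeft (InjectiveObject.ι A).mapHomotopyCategoryPlus (HHunit S)) := by
  rw [NatTrans.isIso_iff_isIso_app]
  intro X
  dsimp
  infer_instance

noncomputable def ΦHHIso : Φ ⋙ HH S ≅ (InjectiveObject.ι A).mapHomotopyCategoryPlus ⋙ G₀ S :=
  (asIso (Functor.whiskerLeft (InjectiveObject.ι A).mapHomotopyCategoryPlus (HHunit S))).symm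

instance : (HH S).IsHomological :=
  Functor.isHomological_of_localization Φ (HH S) _ (ΦHHIso S)

end Groth.Agent.GSS
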