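import Groth.Agent.Lib.GSS.HH

set_option autoImplicit false
universe w v u
open CategoryTheory CategoryTheory.Limits

namespace Groth.Agent.GSS

variable {A : Type u} [Category.{v} A] [Abelian A] [EnoughInjectives A] [HasDerivedCategory.{w} A]
  {B : Type u} [Category.{v} B] [Abelian B] (S : A ⥤ B) [S.Additive]

/-- the object of `K⁺(A)` attached to a bounded below complex. -/
noncomputable def toKPlus (M : CochainComplex A ℤ) (m : ℤ) [M.IsStrictlyGE m] : HomotopyCategory.Plus A :=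
  ⟨(HomotopyCategory.quotient _ _).obj M, (HomotopyCategory.plus_quotient_obj_iff _).mpr ⟨m, inferInstance⟩⟩

/-- `G₀` on an honest complex is `H⁰(S M)`. -/
noncomputable def G₀Iso (M : CochainComplex A ℤ) (m : ℤ) [M.IsStrictlyGE m] :
    (G₀ S).obj (toKPlus M m) ≅ ((S.mapHomologicalComplex (ComplexShape.up ℤ)).obj M).homology 0 :=
  (HomotopyCategory.homologyFunctor B (ComplexShape.up ℤ) 0).mapIso
      ((S.mapHomotopyCategoryFactors (ComplexShape.up ℤ)).app M) ≪≫
    (HomotopyCategory.homologyFunctorFactors B (ComplexShape.up ℤ) 0).app _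

/-- `H⁰` of a shifted complex. -/
noncomputable def shiftHomologyIso (L : CochainComplex B ℤ) (n : ℤ) :
    (L⟦n⟧).homology 0 ≅ L.homology n :=
  ((HomologicalComplex.homologyFunctor B (ComplexShape.up ℤ) 0).shiftIso n 0 n (by simp)).app L

noncomputable def HH_Qh_iso (M : CochainComplex A ℤ) (m : ℤ) [M.IsStrictlyGE m]
    (hM : ∀ i, Injective (M.X i)) :
    (HH S).obj (DerivedCategory.Plus.Qh.obj (toKPlus M m)) ≅
      ((S.mapHomologicalComplex (ComplexShape.up ℤ)).obj M).homology 0 := by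
  haveI : ∀ n, Injective ((toKPlus M m).obj.as.X n) := hM
  exact (asIso ((HHunit S).app (toKPlus M m))).symm ≪≫ G₀Iso S M m

end Groth.Agent.GSS

namespace Groth.Agent.GSS

variable {A : Type u} [Category.{v} A] [Abelian A] [EnoughInjectives A] [HasDerivedCategory.{w} A]
  {B : Type u} [Category.{v} B] [Abelian B] (S : A ⥤ B) [S.Additive]

instance (M : CochainComplex A ℤ) (m : ℤ) [M.IsStrictlyGE m] (n : ℤ) : (M⟦n⟧).IsStrictlyGE (m - n) :=
  M.isStrictlyGE_shift m n (m - n) (by omega)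

/-- `ι (Qh (toKPlus M)) ≅ Q M`. -/
noncomputable def ιQhIso (M : CochainComplex A ℤ) (m : ℤ) [M.IsStrictlyGE m] :
    DerivedCategory.Plus.ι.obj (DerivedCategory.Plus.Qh.obj (toKPlus M m)) ≅ DerivedCategory.Q.obj M :=
  (DerivedCategory.quotientCompQhIso A).app M

/-- if `Q M ≅ ι K` then `K⟦n⟧ ≅ Qh (toKPlus (M⟦n⟧))`. -/
noncomputable def shiftIsoOfIso (K : DerivedCategory.Plus A) (M : CochainComplex A ℤ) (m : ℤ) [M.IsStrictlyGE m]
    (e : DerivedCategory.Q.obj M ≅ DerivedCategory.Plus.ι.obj K) (n : ℤ) :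
    K⟦n⟧ ≅ DerivedCategory.Plus.Qh.obj (toKPlus (M⟦n⟧) (m - n)) :=
  DerivedCategory.Plus.ι.preimageIso
    ((DerivedCategory.Plus.ι.commShiftIso n).app K ≪≫ (shiftFunctor _ n).mapIso e.symm ≪≫
      ((DerivedCategory.Q.commShiftIso n).app M).symm ≪≫ (ιQhIso (M⟦n⟧) (m - n)).symm)

/-- the main computation: `ℝ⁰S(K⟦n⟧) ≅ Hⁿ(S M)` for an injective model `M` of `K`. -/
noncomputable def HH_shift_iso (K : DerivedCategory.Plus A) (M : CochainComplex A ℤ) (m : ℤ) [M.IsStrictlyGE m]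
    (hM : ∀ i, Injective (M.X i))
    (e : DerivedCategory.Q.obj M ≅ DerivedCategory.Plus.ι.obj K) (n : ℤ) :
    (HH S).obj (K⟦n⟧) ≅ ((S.mapHomologicalComplex (ComplexShape.up ℤ)).obj M).homology n :=
  (HH S).mapIso (shiftIsoOfIso K M m e n) ≪≫
    HH_Qh_iso S (M⟦n⟧) (m - n) (fun i => hM _) ≪≫
    (HomologicalComplex.homologyFunctor B (ComplexShape.up ℤ) 0).mapIso
      (((S.mapHomologicalComplex (ComplexShape.up ℤ)).commShiftIso n).app M) ≪≫
    shiftHomologyIso _ n

end Groth.Agent.GSS
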