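import Groth.Agent.Lib.GSS.Acyc
import Groth.Agent.Lib.GSS.EpiG
import Groth.Agent.Lib.SSAcyc
import Groth.Agent.Lib.SSConv
import Groth.Prelude.Def_RDerDelta

set_option autoImplicit false
universe w v u
open CategoryTheory CategoryTheory.Limits ComposableArrows Pretriangulated

namespace Groth.Agent.GSS

variable {A : Type u} [Category.{v} A] [Abelian A] [EnoughInjectives A] [HasDerivedCategory.{w} A]
  {B : Type u} [Category.{v} B] [Abelian B] (S : A ⥤ B) [S.Additive]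

lemma isAcyc_of_isZero (Z : A) (hZ : IsZero Z) : IsAcyc S Z := fun k =>
  (S.rightDerived (k + 1)).map_isZero hZ

lemma isAcyc_of_iso {X Y : A} (e : X ≅ Y) (h : IsAcyc S X) : IsAcyc S Y := fun k =>
  IsZero.of_iso (h k) ((S.rightDerived (k + 1)).mapIso e.symm)

lemma isAcyc_biprod (X Y : A) (hX : IsAcyc S X) (hY : IsAcyc S Y) : IsAcyc S (X ⊞ Y) := fun k => by
  haveI : (S.rightDerived (k + 1)).Additive := RDer.rightDerived_additive S (k + 1)
  rw [IsZero.iff_id_eq_zero, ← (S.rightDerived (k + 1)).map_id, ← biprod.total, Functor.map_add,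
    Functor.map_comp, Functor.map_comp, (hX k).eq_of_tgt ((S.rightDerived (k + 1)).map biprod.fst) 0,
    (hY k).eq_of_tgt ((S.rightDerived (k + 1)).map biprod.snd) 0, zero_comp, zero_comp, add_zero]

lemma isAcyc_of_injective (I : A) [Injective I] : IsAcyc S I := fun k =>
  Functor.isZero_rightDerived_obj_injective_succ S k I

variable [PreservesFiniteLimits S]

/-- the abutment computation: `ℝⁿS(K) ≅ Hⁿ(S K)` for a bounded below complex of `S`-acyclic objects. -/
lemma abut_iso (K : CochainComplex A ℤ) [K.IsStrictlyGE 0] (hK : ∀ i, IsAcyc S (K.X i))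
    (X : DerivedCategory.Plus A) (e : DerivedCategory.Q.obj K ≅ DerivedCategory.Plus.ι.obj X) (n : ℤ) :
    Nonempty ((HH S).obj (X⟦n⟧) ≅ ((S.mapHomologicalComplex (ComplexShape.up ℤ)).obj K).homology n) := by
  obtain ⟨L, i, hi, hL, hL0⟩ := CochainComplex.Plus.modelCategoryQuillen.exists_quasiIso_injective K 0
  let e' : DerivedCategory.Q.obj L ≅ DerivedCategory.Plus.ι.obj X := (asIso (DerivedCategory.Q.map i)).symm ≪≫ e
  have hq : QuasiIso ((S.mapHomologicalComplex (ComplexShape.up ℤ)).map i) :=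
    Groth.Agent.SSAcyc.quasiIso_map_of_adapted S (IsAcyc S) (isAcyc_of_isZero S)
      (fun _ _ e h => isAcyc_of_iso S e h) (isAcyc_biprod S)
      (fun T hT h₁ h₂ => isAcyc_X₃ S T hT h₁ h₂)
      (fun T hT h₁ => epi_map_g_of_isZero_rightDerived_one S T hT (h₁ 0))
      K L i hi 0 hK (fun j => isAcyc_of_injective S (L.X j))
  exact ⟨HH_shift_iso S X L 0 hL e' n ≪≫
    (asIso (HomologicalComplex.homologyMap ((S.mapHomologicalComplex (ComplexShape.up ℤ)).map i) n)).symm⟩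

end Groth.Agent.GSS

namespace Groth.Agent.GSS

variable {A : Type u} [Category.{v} A] [Abelian A] [EnoughInjectives A] [HasDerivedCategory.{w} A]
  {B : Type u} [Category.{v} B] [Abelian B] (S : A ⥤ B) [S.Additive] [PreservesFiniteLimits S]

/-- **Grothendieck spectral sequence**, hypercohomology form: for a complex `K` (in degrees `≥ 0`) of
`S`-acyclic objects there is a first quadrant `E₂`-spectral sequence `RᵖS(H^q K) ⇒ H^{p+q}(S K)`. -/
theorem main (K : CochainComplex A ℤ) [K.IsStrictlyGE 0] (hK : ∀ i, IsAcyc S (K.X i))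
    (H' : ℤ → B) (hH : ∀ n : ℤ, 0 ≤ n →
      Nonempty (H' n ≅ ((S.mapHomologicalComplex (ComplexShape.up ℤ)).obj K).homology n))
    (hH0 : ∀ n : ℤ, n < 0 → IsZero (H' n))
    (E2 : ℤ → ℤ → B)
    (hE2 : ∀ (p : ℕ) (q : ℤ), 0 ≤ q → Nonempty (E2 p q ≅ (S.rightDerived p).obj (K.homology q)))
    (hE20 : ∀ p q : ℤ, (p < 0 ∨ q < 0) → IsZero (E2 p q)) :
    ∃ (E : E₂CohomologicalSpectralSequence B) (a : SpSeq.Abutment E H'),
      (∀ n, a.IsFinite n) ∧ SpSeq.IsBounded E ∧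
      ∀ p q : ℤ, Nonempty ((E.page 2 le_rfl).X (p, q) ≅ E2 p q) := by
  let X : DerivedCategory.Plus A := DerivedCategory.Plus.Qh.obj (toKPlus K 0)
  let e : DerivedCategory.Q.obj K ≅ DerivedCategory.Plus.ι.obj X := (ιQhIso K 0).symm
  have : X.IsGE 0 := by
    rw [← DerivedCategory.Plus.isGE_ι_obj_iff]
    exact DerivedCategory.TStructure.t.isGE_of_iso e 0
  obtain ⟨a, hfin, hbdd, hE⟩ := Groth.Agent.SSConv.exists_abutment (specObj S X)
  have eH : ∀ n : ℤ, Nonempty (((specObj S X).H n).obj (mk₁ (homOfLE (bot_le : (⊥ : EInt) ≤ ⊤))) ≅ H' n) := by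
    intro n
    by_cases hn : 0 ≤ n
    · obtain ⟨e1⟩ := abut_iso S K hK X e n
      obtain ⟨e2⟩ := hH n hn
      exact ⟨e1 ≪≫ e2.symm⟩
    · refine ⟨IsZero.iso ?_ (hH0 n (by omega))⟩
      rw [specObj_H_obj]
      have : tP.IsGE (((tP.eTruncGE.obj ⊥).obj ((tP.eTruncLT.obj ⊤).obj X))⟦n⟧) (-n) :=
        tP.isGE_shift (X := X) 0 n (-n) (by omega)
      have : tP.IsGE (((tP.eTruncGE.obj ⊥).obj ((tP.eTruncLT.obj ⊤).obj X))⟦n⟧) 1 :=
        tP.isGE_of_ge _ 1 (-n) (by omega)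
      exact isZero_HH_of_isGE S _
  obtain ⟨a', hfin'⟩ := Groth.Agent.SSConv.abutment_transport _ a (fun n => (eH n).some) hfin
  refine ⟨_, a', hfin', hbdd, fun p q => ?_⟩
  obtain ⟨e0⟩ := hE p q
  by_cases hpq : 0 ≤ p ∧ 0 ≤ q
  · obtain ⟨p, rfl⟩ := Int.eq_ofNat_of_zero_le hpq.1
    obtain ⟨e1⟩ := E2_iso S X p q
    obtain ⟨e2⟩ := hE2 p q hpq.2
    let e3 : (DerivedCategory.Plus.homologyFunctor A q).obj X ≅ K.homology q :=
      (DerivedCategory.homologyFunctor A q).mapIso e.symm ≪≫ (DerivedCategory.homologyFunctorFactors A q).app K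
    exact ⟨e0 ≪≫ e1 ≪≫ (S.rightDerived p).mapIso e3 ≪≫ e2.symm⟩
  · refine ⟨e0 ≪≫ IsZero.iso ?_ (hE20 p q (by omega))⟩
    by_cases hq : q < 0
    · exact (specObj S X).isZero₁_of_isFirstQuadrant _ _ _ (by simpa using (show q + 1 ≤ 0 by omega)) _
    · exact (specObj S X).isZero₂_of_isFirstQuadrant _ _ _ _ (by simpa using (show p + q < q by omega))

end Groth.Agent.GSS
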