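import Mathlib

set_option autoImplicit false
universe w v u
open CategoryTheory CategoryTheory.Limits ComposableArrows Pretriangulated

namespace Groth.Agent.GSS

variable {𝒯 : Type*} [Category 𝒯] [HasZeroObject 𝒯] [HasShift 𝒯 ℤ] [Preadditive 𝒯]
  [∀ n : ℤ, (shiftFunctor 𝒯 n).Additive] [Pretriangulated 𝒯]
  {ι : Type*} [Category ι] {B : Type*} [Category B] [Abelian B]

/-- The abelian spectral object obtained by applying a homological functor to a triangulated
spectral object. -/
noncomputable def mapHomological (X : Triangulated.SpectralObject 𝒯 ι) (F : 𝒯 ⥤ B) [F.IsHomological]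
    [F.ShiftSequence ℤ] : Abelian.SpectralObject B ι where
  H n := X.ω₁ ⋙ F.shift n
  δ' n₀ n₁ h :=
    { app := fun D => F.homologySequenceδ (X.ω₂.obj D) n₀ n₁ h
      naturality := fun D D' f => F.homologySequenceδ_naturality _ _ (X.ω₂.map f) n₀ n₁ h }
  exact₁' n₀ n₁ h D :=
    (F.homologySequence_exact₁ _ (X.ω₂_obj_distinguished D) n₀ n₁ h).exact_toComposableArrows
  exact₂' n D :=
    (F.homologySequence_exact₂ _ (X.ω₂_obj_distinguished D) n).exact_toComposableArrows
  exact₃' n₀ n₁ h D :=
    (F.homologySequence_exact₃ _ (X.ω₂_obj_distinguished D) n₀ n₁ h).exact_toComposableArrows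

@[simp]
lemma mapHomological_H (X : Triangulated.SpectralObject 𝒯 ι) (F : 𝒯 ⥤ B) [F.IsHomological]
    [F.ShiftSequence ℤ] (n : ℤ) : (mapHomological X F).H n = X.ω₁ ⋙ F.shift n := rfl

end Groth.Agent.GSS
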