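import Groth.Agent.Lib.GSS.Grothendieck
import Groth.Agent.Lib.GSS.ExtDer
import Groth.Agent.Lib.GSS.DerNatIso
import Groth.Agent.Lib.PshExt
import Groth.Agent.Lib.RpushSheafify
import Groth.Agent.Lib.CohCxBasics

set_option autoImplicit false
universe u
open CategoryTheory CategoryTheory.Limits Opposite Abelian

namespace Groth.Agent.GSS

open Groth.Agent.PshExt Groth.Agent.CohSiteBasics

variable {C : Type u} [SmallCategory C] (J : GrothendieckTopology C)

instance idContinuousBot : (𝟭 C).IsContinuous (⊥ : GrothendieckTopology C) J :=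
  ⟨fun _ => Presieve.isSheaf_bot⟩

/-- `R^q` of the forgetful functor to presheaves is the presheaf `U ↦ H^q(U, M)`. -/
theorem nonempty_Ψ_rightDerived_iso (M : Sheaf J AddCommGrpCat.{u}) (q : ℕ) :
    Nonempty (((Ψ J).rightDerived q).obj M ≅
      (⟨M.cohomologyPresheaf q, Presheaf.isSheaf_bot _⟩ :
        Sheaf (⊥ : GrothendieckTopology C) AddCommGrpCat.{u})) := by
  let α : Ψ J ≅ CohSite.push J (⊥ : GrothendieckTopology C) (𝟭 C) := Iso.refl _
  obtain ⟨e2⟩ := Groth.Agent.RpushSheafify.nonempty_Rpush_iso J (⊥ : GrothendieckTopology C) (𝟭 C) M q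
  let G : Sheaf (⊥ : GrothendieckTopology C) AddCommGrpCat.{u} :=
    ⟨(𝟭 C).op ⋙ M.cohomologyPresheaf q, Presheaf.isSheaf_bot _⟩
  have h3 : IsIso ((sheafificationAdjunction (⊥ : GrothendieckTopology C) AddCommGrpCat.{u}).counit.app G) :=
    inferInstance
  let e3 : (presheafToSheaf (⊥ : GrothendieckTopology C) AddCommGrpCat.{u}).obj
      ((𝟭 C).op ⋙ M.cohomologyPresheaf q) ≅ G := @asIso _ _ _ _ _ h3
  let e4 : G ≅ ⟨M.cohomologyPresheaf q, Presheaf.isSheaf_bot _⟩ := Iso.refl _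
  exact ⟨(rightDerivedNatIso α q).app M ≪≫ e2 ≪≫ e3 ≪≫ e4⟩

/-- `Hom(ℤ[R], -)` on presheaves. -/
noncomputable abbrev homFree (R : Cᵒᵖ ⥤ Type u) :
    Sheaf (⊥ : GrothendieckTopology C) AddCommGrpCat.{u} ⥤ AddCommGrpCat.{u} :=
  preadditiveCoyoneda.obj (op (freeBot R))

theorem nonempty_homFree_rightDerived_iso (R : Cᵒᵖ ⥤ Type u)
    (G : Sheaf (⊥ : GrothendieckTopology C) AddCommGrpCat.{u}) (p : ℕ) :
    Nonempty (((homFree R).rightDerived p).obj G ≅ AddCommGrpCat.of (Ext (freeBot R) G p)) :=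
  nonempty_rightDerived_iso_ext (homFree R) (freeBot R) (fun F => AddEquiv.refl _) (fun a φ => rfl) p G

lemma isZero_homFree_Ψ_injective (R : Cᵒᵖ ⥤ Type u) (Q : Sheaf J AddCommGrpCat.{u}) [Injective Q]
    (q : ℕ) (hq : 0 < q) : IsZero (((homFree R).rightDerived q).obj ((Ψ J).obj Q)) := by
  obtain ⟨q, rfl⟩ := Nat.exists_eq_succ_of_ne_zero (Nat.pos_iff_ne_zero.1 hq)
  exact Functor.isZero_rightDerived_obj_injective_succ _ _ _

end Groth.Agent.GSS
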