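import Groth.Agent.Lib.CohSiteBasics
import Groth.Prelude.Def_LocCohZ

/-! The long exact sequence of cohomology with supports: vanishing of `H^i_Z` versus bijectivity
of restriction maps. -/

set_option autoImplicit false
universe u
open CategoryTheory CategoryTheory.Limits TopologicalSpace Opposite Abelian

namespace Groth.Agent.GSS

variable {X : TopCat.{u}} {W V : Opens X} (h : W ≤ V) (F : CohTop.Ab X)

lemma res_apply (i : ℕ) (ξ : CohTop.HU F i V) :
    CohTop.res F i h ξ = (Ext.mk₀ (LocCohZ.zqSeq h).f).comp (ξ : Ext (LocCohZ.zqSeq h).X₂ F i)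
      (zero_add i) := rfl

lemma res_injective_of_subsingleton (i : ℕ) (hs : Subsingleton (LocCohZ.HZ F i h)) :
    Function.Injective (CohTop.res F i h) := by
  rw [injective_iff_map_eq_zero]
  intro x₂ hx₂
  rw [res_apply] at hx₂
  obtain ⟨x₃, rfl⟩ := Ext.contravariant_sequence_exact₂ (LocCohZ.zqSeq_shortExact h) F x₂ hx₂
  have : x₃ = 0 := Subsingleton.elim (α := LocCohZ.HZ F i h) _ _
  rw [this, Ext.comp_zero]
  rfl

lemma res_surjective_of_subsingleton (i : ℕ) (hs : Subsingleton (LocCohZ.HZ F (i + 1) h)) :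
    Function.Surjective (CohTop.res F i h) := by
  intro x₁
  have h0 : (LocCohZ.zqSeq_shortExact h).extClass.comp (x₁ : Ext (LocCohZ.zqSeq h).X₁ F i)
      (Nat.add_comm 1 i) = 0 := Subsingleton.elim (α := LocCohZ.HZ F (i + 1) h) _ _
  obtain ⟨x₂, hx₂⟩ := Ext.contravariant_sequence_exact₁ (LocCohZ.zqSeq_shortExact h) F x₁
    (Nat.add_comm 1 i) h0
  exact ⟨x₂, hx₂⟩

lemma HZ_eq_zero_of_res (i : ℕ) (hinj : Function.Injective (CohTop.res F i h))
    (hsurj : ∀ j : ℕ, j + 1 = i → Function.Surjective (CohTop.res F j h))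
    (x₃ : LocCohZ.HZ F i h) : x₃ = 0 := by
  have hy : (Ext.mk₀ (LocCohZ.zqSeq h).g).comp (x₃ : Ext (LocCohZ.zqSeq h).X₃ F i) (zero_add i) = 0 := by
    apply hinj
    have h0 : (CohTop.res F i h) 0 = 0 := map_zero _
    refine Eq.trans ?_ h0.symm
    show (Ext.mk₀ (LocCohZ.zqSeq h).f).comp ((Ext.mk₀ (LocCohZ.zqSeq h).g).comp
      (x₃ : Ext (LocCohZ.zqSeq h).X₃ F i) (zero_add i)) (zero_add i) = 0
    rw [Ext.mk₀_comp_mk₀_assoc, (LocCohZ.zqSeq h).zero, Ext.mk₀_zero, Ext.zero_comp]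
  cases i with
  | zero =>
    have : Epi (LocCohZ.zqSeq h).g := (LocCohZ.zqSeq_shortExact h).epi_g
    exact Ext.precomp_mk₀_injective_of_epi F (LocCohZ.zqSeq h).g (hy.trans (map_zero _).symm)
  | succ j =>
    obtain ⟨x₁, rfl⟩ := Ext.contravariant_sequence_exact₃ (LocCohZ.zqSeq_shortExact h) F x₃ hy
      (Nat.add_comm 1 j)
    obtain ⟨x₂, rfl⟩ := hsurj j rfl x₁
    rw [res_apply, (LocCohZ.zqSeq_shortExact h).extClass_comp_assoc]
    rfl

theorem HZ_subsingleton_iff_res (N : ℕ) :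
    (∀ i : ℕ, i ≤ N → Subsingleton (LocCohZ.HZ F i h)) ↔
      (∀ i : ℕ, i < N → Function.Bijective (CohTop.res F i h)) ∧
        Function.Injective (CohTop.res F N h) := by
  constructor
  · intro hs
    exact ⟨fun i hi => ⟨res_injective_of_subsingleton h F i (hs i hi.le),
      res_surjective_of_subsingleton h F i (hs (i + 1) hi)⟩,
      res_injective_of_subsingleton h F N (hs N le_rfl)⟩
  · rintro ⟨hb, hinj⟩ i hi
    have hinj' : Function.Injective (CohTop.res F i h) := by
      rcases Nat.lt_or_eq_of_le hi with hlt | rfl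
      · exact (hb i hlt).1
      · exact hinj
    have key : ∀ x : LocCohZ.HZ F i h, x = 0 := fun x =>
      HZ_eq_zero_of_res h F i hinj' (fun j hj => (hb j (by omega)).2) x
    exact ⟨fun x y => (key x).trans (key y).symm⟩

end Groth.Agent.GSS
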