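import Groth.Agent.Lib.GSS.SectSuppLES
import Groth.Agent.Lib.GSS.SuppLES
import Groth.Agent.Lib.GSS.Acyc
import Groth.Agent.Lib.ExtChase

set_option autoImplicit false
universe u
open CategoryTheory CategoryTheory.Limits TopologicalSpace Opposite Abelian

namespace Groth.Agent.GSS

open Groth.Agent.CohSiteBasics


section DimShift
universe w' v' u'
open Pretriangulated
variable {A : Type u'} [Category.{v'} A] [Abelian A] [EnoughInjectives A] [HasDerivedCategory.{w'} A]
  {B : Type u'} [Category.{v'} B] [Abelian B] (S : A ⥤ B) [S.Additive]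

lemma isZero_rightDerived_succ_X₁ (T : ShortComplex A) (hT : T.ShortExact) (k : ℕ)
    (h₃ : IsZero ((S.rightDerived k).obj T.X₃)) (h₂ : IsZero ((S.rightDerived (k + 1)).obj T.X₂)) :
    IsZero ((S.rightDerived (k + 1)).obj T.X₁) := by
  rw [← isZero_HH_sP_iff]
  have hex := (HH S).homologySequence_exact₁ _ (sesTriangle_distinguished T hT) ((k : ℕ) : ℤ)
    ((k + 1 : ℕ) : ℤ) (by push_cast; ring)
  have z1 : IsZero ((HH S).obj ((sP T.X₃)⟦((k : ℕ) : ℤ)⟧)) := (isZero_HH_sP_iff S _ _).2 h₃
  have z2 : IsZero ((HH S).obj ((sP T.X₂)⟦((k + 1 : ℕ) : ℤ)⟧)) := (isZero_HH_sP_iff S _ _).2 h₂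
  exact hex.isZero_of_both_zeros (z1.eq_of_src _ _) (z2.eq_of_tgt _ _)

end DimShift

variable {X : TopCat.{u}} (U : Opens X)

local notation "JX" => Opens.grothendieckTopology X

/-- `H^0(V, G)` is `G(V)`. -/
noncomputable def sec0 (V : Opens X) (G : CohTop.Ab X) : CohTop.HU G 0 V ≃ G.obj.obj (op V) :=
  (Ext.addEquiv₀ (X := freeSheaf JX V) (Y := G)).toEquiv.trans (secEquiv V G)

lemma sec0_res {W V : Opens X} (h : W ≤ V) (G : CohTop.Ab X) (ξ : CohTop.HU G 0 V) :
    sec0 W G (CohTop.res G 0 h ξ) = G.obj.map (homOfLE h).op (sec0 V G ξ) := by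
  obtain ⟨a, rfl⟩ := (Ext.mk₀_bijective (freeSheaf JX V) G).2 ξ
  have h1 : CohTop.res G 0 h (Ext.mk₀ a) = Ext.mk₀ (freeMap JX (homOfLE h) ≫ a) := by
    rw [res_apply]
    exact Ext.mk₀_comp_mk₀ _ _
  rw [h1]
  have e1 : ∀ {A : CohTop.Ab X} (b : A ⟶ G), Ext.addEquiv₀ (Ext.mk₀ b) = b :=
    fun b => Ext.addEquiv₀.apply_symm_apply b
  show secEquiv W G (Ext.addEquiv₀ (Ext.mk₀ (freeMap JX (homOfLE h) ≫ a))) =
    G.obj.map (homOfLE h).op (secEquiv V G (Ext.addEquiv₀ (Ext.mk₀ a)))
  rw [e1, e1]
  exact secEquiv_freeMap (homOfLE h) a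

lemma res0_bijective_iff {W V : Opens X} (h : W ≤ V) (G : CohTop.Ab X) :
    Function.Bijective (CohTop.res G 0 h) ↔ Function.Bijective (G.obj.map (homOfLE h).op) := by
  have hc : (G.obj.map (homOfLE h).op : G.obj.obj (op V) → G.obj.obj (op W)) ∘ (sec0 V G) =
      (sec0 W G) ∘ (CohTop.res G 0 h) := by
    funext ξ
    exact (sec0_res h G ξ).symm
  constructor
  · intro hb
    have : Function.Bijective ((G.obj.map (homOfLE h).op : G.obj.obj (op V) → G.obj.obj (op W)) ∘ (sec0 V G)) := by
      rw [hc]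
      exact (sec0 W G).bijective.comp hb
    exact (Function.Bijective.of_comp_iff _ (sec0 V G).bijective).1 this
  · intro hb
    have : Function.Bijective ((sec0 W G) ∘ (CohTop.res G 0 h)) := by
      rw [← hc]
      exact hb.comp (sec0 V G).bijective
    exact (Function.Bijective.of_comp_iff' (sec0 W G).bijective _).1 this


lemma res0_surjective_iff {W V : Opens X} (h : W ≤ V) (G : CohTop.Ab X) :
    Function.Surjective (CohTop.res G 0 h) ↔ Function.Surjective (G.obj.map (homOfLE h).op) := by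
  have hc : (G.obj.map (homOfLE h).op : G.obj.obj (op V) → G.obj.obj (op W)) ∘ (sec0 V G) =
      (sec0 W G) ∘ (CohTop.res G 0 h) := by
    funext ξ
    exact (sec0_res h G ξ).symm
  constructor
  · intro hb
    have : Function.Surjective ((G.obj.map (homOfLE h).op : G.obj.obj (op V) → G.obj.obj (op W)) ∘ (sec0 V G)) := by
      rw [hc]
      exact (sec0 W G).surjective.comp hb
    exact Function.Surjective.of_comp this
  · intro hb
    have : Function.Surjective ((sec0 W G) ∘ (CohTop.res G 0 h)) := by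
      rw [← hc]
      exact hb.comp (sec0 V G).surjective
    exact (Function.Surjective.of_comp_iff' (sec0 W G).bijective _).1 this

lemma image_preimage_eq (V : Opens X) :
    U.isOpenEmbedding.isOpenMap.functor.obj ((Opens.map (CohCx.incl U)).obj V) = V ⊓ U := by
  ext x
  constructor
  · rintro ⟨y, hy, rfl⟩
    exact ⟨hy, y.2⟩
  · rintro ⟨hx, hxU⟩
    exact ⟨⟨x, hxU⟩, hx, rfl⟩

lemma epi_map_of_eq (G : CohTop.Ab X) {V W' : Opens X} (hW : W' = V ⊓ U) (k : op V ⟶ op W')
    (hs : Function.Surjective (G.obj.map (homOfLE (inf_le_left : V ⊓ U ≤ V)).op)) :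
    Epi (G.obj.map k) := by
  subst hW
  have : k = (homOfLE (inf_le_left : V ⊓ U ≤ V)).op := Subsingleton.elim _ _
  rw [this]
  exact (AddCommGrpCat.epi_iff_surjective _).2 hs

lemma bijective_map_of_eq (G : CohTop.Ab X) {V W' : Opens X} (hW : W' = V ⊓ U) (k : op V ⟶ op W')
    (hs : IsIso (G.obj.map k)) :
    Function.Bijective (G.obj.map (homOfLE (inf_le_left : V ⊓ U ≤ V)).op) := by
  subst hW
  have : k = (homOfLE (inf_le_left : V ⊓ U ≤ V)).op := Subsingleton.elim _ _
  rw [this] at hs
  exact (ConcreteCategory.isIso_iff_bijective _).1 hs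

/-- (T0a) surjective restrictions to `V ∩ U` make the unit `G ⟶ j_* j⁻¹ G` an epimorphism. -/
lemma unit_epi_of_surjective (G : CohTop.Ab X)
    (hs : ∀ V : Opens X, Function.Surjective (G.obj.map (homOfLE (inf_le_left : V ⊓ U ≤ V)).op)) :
    Epi ((adjU U).unit.app G) := by
  have hepi : Epi ((adjρ U).unit.app G) := by
    have : ∀ V, Epi (((adjρ U).unit.app G).hom.app V) := by
      intro V
      simp [adjρ]
      exact epi_map_of_eq U G (image_preimage_eq U V.unop) _ (hs V.unop)
    have : Epi ((adjρ U).unit.app G).hom := NatTrans.epi_of_epi_app _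
    exact Sheaf.Hom.epi_of_presheaf_epi _ _ _
  have h := Adjunction.unit_leftAdjointUniq_hom_app (adjU U) (adjρ U) G
  have : (adjU U).unit.app G = (adjρ U).unit.app G ≫
      (CohTop.push (CohCx.incl U)).map ((Adjunction.leftAdjointUniq (adjU U) (adjρ U)).inv.app G) := by
    rw [← h, Category.assoc, ← Functor.map_comp, Iso.hom_inv_id_app, CategoryTheory.Functor.map_id]
    exact (Category.comp_id _).symm
  rw [this]
  exact epi_comp' hepi inferInstance

/-- (T0b) if the unit `G ⟶ j_* j⁻¹ G` is an isomorphism, restrictions to `V ∩ U` are bijective. -/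
lemma bijective_of_isIso_unit (G : CohTop.Ab X) (hiso : IsIso ((adjU U).unit.app G)) (V : Opens X) :
    Function.Bijective (G.obj.map (homOfLE (inf_le_left : V ⊓ U ≤ V)).op) := by
  have h := Adjunction.unit_leftAdjointUniq_hom_app (adjU U) (adjρ U) G
  have h1 : IsIso ((adjρ U).unit.app G) := by
    rw [← h]
    infer_instance
  have h2 : IsIso ((sheafToPresheaf _ _).map ((adjρ U).unit.app G)) := inferInstance
  have h3 : IsIso (((adjρ U).unit.app G).hom.app (op V)) :=
    inferInstanceAs (IsIso (((sheafToPresheaf _ _).map ((adjρ U).unit.app G)).app (op V)))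
  simp [adjρ] at h3
  exact bijective_map_of_eq U G (image_preimage_eq U V) _ h3

lemma mono_map_of_eq (G : CohTop.Ab X) {V W' : Opens X} (hW : W' = V ⊓ U) (k : op V ⟶ op W')
    (hs : Function.Injective (G.obj.map (homOfLE (inf_le_left : V ⊓ U ≤ V)).op)) :
    Mono (G.obj.map k) := by
  subst hW
  have : k = (homOfLE (inf_le_left : V ⊓ U ≤ V)).op := Subsingleton.elim _ _
  rw [this]
  exact (AddCommGrpCat.mono_iff_injective _).2 hs

/-- (T0c) injective restrictions to `V ∩ U` make the unit `G ⟶ j_* j⁻¹ G` a monomorphism. -/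
lemma unit_mono_of_injective (G : CohTop.Ab X)
    (hs : ∀ V : Opens X, Function.Injective (G.obj.map (homOfLE (inf_le_left : V ⊓ U ≤ V)).op)) :
    Mono ((adjU U).unit.app G) := by
  have hmono : Mono ((adjρ U).unit.app G) := by
    have : ∀ V, Mono (((adjρ U).unit.app G).hom.app V) := by
      intro V
      simp [adjρ]
      exact mono_map_of_eq U G (image_preimage_eq U V.unop) _ (hs V.unop)
    have : Mono ((adjρ U).unit.app G).hom := NatTrans.mono_of_mono_app _
    exact Sheaf.Hom.mono_of_presheaf_mono _ _ _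
  have h := Adjunction.unit_leftAdjointUniq_hom_app (adjU U) (adjρ U) G
  have : (adjU U).unit.app G = (adjρ U).unit.app G ≫
      (CohTop.push (CohCx.incl U)).map ((Adjunction.leftAdjointUniq (adjU U) (adjρ U)).inv.app G) := by
    rw [← h, Category.assoc, ← Functor.map_comp, Iso.hom_inv_id_app, CategoryTheory.Functor.map_id]
    exact (Category.comp_id _).symm
  rw [this]
  exact mono_comp _ _

/-- the sheaf `J = j_* j⁻¹ I(F)`. -/
noncomputable def JJ (F : CohTop.Ab X) : CohTop.Ab X := (Jf U).obj (Injective.under F)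

/-- `F ⟶ J`. -/
noncomputable def toJJ (F : CohTop.Ab X) : F ⟶ JJ U F :=
  (adjU U).unit.app F ≫ (Jf U).map (Injective.ι F)

instance JJ_injective (F : CohTop.Ab X) : Injective (JJ U F) := by
  have := pull_injective U (Injective.under F) inferInstance
  exact Groth.Agent.CohTopBasics.push_injective _ _

lemma mono_toJJ (F : CohTop.Ab X)
    (hs : ∀ V : Opens X, Function.Injective (F.obj.map (homOfLE (inf_le_left : V ⊓ U ≤ V)).op)) :
    Mono (toJJ U F) := by
  have h1 := unit_mono_of_injective U F hs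
  have : (Jf U).PreservesMonomorphisms := preservesMonomorphisms_of_preservesLimitsOfShape _
  have h2 : Mono ((Jf U).map (Injective.ι F)) := (Jf U).map_mono _
  exact mono_comp' h1 h2

lemma push_res_bijective (K : CohTop.Ab (TopCat.of U)) (V : Opens X) :
    Function.Bijective (((CohTop.push (CohCx.incl U)).obj K).obj.map
      (homOfLE (inf_le_left : V ⊓ U ≤ V)).op) := by
  have hiso : IsIso ((Opens.map (CohCx.incl U)).map (homOfLE (inf_le_left : V ⊓ U ≤ V))) :=
    ⟨⟨eqToHom (map_incl_inf U V).symm, Subsingleton.elim _ _, Subsingleton.elim _ _⟩⟩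
  have : IsIso (((CohTop.push (CohCx.incl U)).obj K).obj.map (homOfLE (inf_le_left : V ⊓ U ≤ V)).op) := by
    show IsIso (K.obj.map ((Opens.map (CohCx.incl U)).map (homOfLE (inf_le_left : V ⊓ U ≤ V))).op)
    infer_instance
  exact ConcreteCategory.bijective_of_isIso _

lemma JJ_res0_bijective (F : CohTop.Ab X) (V : Opens X) :
    Function.Bijective (CohTop.res (JJ U F) 0 (inf_le_left : V ⊓ U ≤ V)) :=
  (res0_bijective_iff _ _).2 (push_res_bijective U _ V)

/-- the short exact sequence `0 ⟶ F ⟶ J ⟶ Q ⟶ 0`. -/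
noncomputable def sesJ (F : CohTop.Ab X) : ShortComplex (CohTop.Ab X) :=
  ShortComplex.mk (toJJ U F) (cokernel.π (toJJ U F)) (cokernel.condition _)

lemma sesJ_shortExact (F : CohTop.Ab X)
    (hs : ∀ V : Opens X, Function.Injective (F.obj.map (homOfLE (inf_le_left : V ⊓ U ≤ V)).op)) :
    (sesJ U F).ShortExact := by
  have := mono_toJJ U F hs
  exact { exact := ShortComplex.exact_cokernel _
          mono_f := this
          epi_g := inferInstanceAs (Epi (cokernel.π (toJJ U F))) }

lemma res_eq_r {W V : Opens X} (h : W ≤ V) (G : CohTop.Ab X) (i : ℕ) :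
    (CohTop.res G i h : CohTop.HU G i V → CohTop.HU G i W) =
      ⇑(Groth.Agent.ExtChase.r (LocCohZ.zqSeq h).f G i) := rfl

theorem claim (N : ℕ) : ∀ F : CohTop.Ab X,
    (∀ (V : Opens X) (i : ℕ), i < N + 1 →
      Function.Bijective (CohTop.res F i (inf_le_left : V ⊓ U ≤ V))) →
    IsZero ((LocCohZ.HZsh U (N + 1)).obj F) := by
  induction N with
  | zero =>
    intro F h
    have hs : ∀ V : Opens X, Function.Surjective (F.obj.map (homOfLE (inf_le_left : V ⊓ U ≤ V)).op) :=
      fun V => ((res0_bijective_iff _ _).1 (h V 0 (by omega))).2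
    have hepi := unit_epi_of_surjective U F hs
    have h0 : (bd U).app F = 0 := by
      rw [← cancel_epi ((adjU U).unit.app F), unit_app_comp_bd, comp_zero]
    have := epi_bd U F
    exact IsZero.of_epi_eq_zero ((bd U).app F) h0
  | succ N ih =>
    intro F h
    have hs : ∀ V : Opens X, Function.Injective (F.obj.map (homOfLE (inf_le_left : V ⊓ U ≤ V)).op) :=
      fun V => ((res0_bijective_iff _ _).1 (h V 0 (by omega))).1
    have hT := sesJ_shortExact U F hs
    have hJ : ∀ (B : CohTop.Ab X) (k : ℕ) (x : Ext B (sesJ U F).X₂ (k + 1)), x = 0 :=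
      fun B k x => Ext.eq_zero_of_injective (I := JJ U F) x
    have hQ : ∀ (V : Opens X) (i : ℕ), i < N + 1 →
        Function.Bijective (CohTop.res (sesJ U F).X₃ i (inf_le_left : V ⊓ U ≤ V)) := by
      intro V i hi
      rw [res_eq_r]
      cases i with
      | zero =>
        refine Groth.Agent.ExtChase.r_bijective_zero _ hT ?_ ?_ ?_ (hJ _ 0)
        · exact (h V 0 (by omega)).2
        · exact JJ_res0_bijective U F V
        · exact h V 1 (by omega)
      | succ k =>
        exact Groth.Agent.ExtChase.r_bijective_of_succ _ hT (k + 1) (hJ _ k) (hJ _ (k + 1)) (hJ _ k)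
          (hJ _ (k + 1)) (h V (k + 2) (by omega))
    have hz := ih (sesJ U F).X₃ hQ
    let _ : HasDerivedCategory (CohTop.Ab X) := HasDerivedCategory.standard _
    exact isZero_rightDerived_succ_X₁ (LocCohZ.sectSuppF U) _ hT (N + 1) hz
      (Functor.isZero_rightDerived_obj_injective_succ _ _ (JJ U F))

end Groth.Agent.GSS
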