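import Groth.Prelude.Def_LocCohZ
import Groth.Agent.Lib.GSS.Grothendieck
import Groth.Agent.Lib.GSS.ExtDer
import Groth.Agent.Lib.CohTopBasics

set_option autoImplicit false
universe u
open CategoryTheory CategoryTheory.Limits Opposite Abelian TopologicalSpace

namespace Groth.Agent.GSS

variable {X : TopCat.{u}}

/-- morphisms out of `ℤ_V/ℤ_W` are sections over `V` vanishing on `W`. -/
noncomputable def zqHomEquiv (G : CohTop.Ab X) {W V : Opens X} (h : W ≤ V) :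
    (LocCohZ.zq h ⟶ G) ≃+ LocCohZ.sectZ G h :=
  Ext.addEquiv₀.symm.trans (LocCohZ.sect0Equiv G h)

lemma zqHomEquiv_val (G : CohTop.Ab X) {W V : Opens X} (h : W ≤ V) (a : LocCohZ.zq h ⟶ G) :
    (zqHomEquiv G h a).1 = CohFree.evalGen (Opens.grothendieckTopology X) V G
      (cokernel.π (CohCx.freeSheafMap (Opens.grothendieckTopology X) (homOfLE h)) ≫ a) := by
  show CohFree.evalGen (Opens.grothendieckTopology X) V G
      (cokernel.π _ ≫ Ext.addEquiv₀ (Ext.addEquiv₀.symm a)) = _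
  rw [AddEquiv.apply_symm_apply]

lemma zqHomEquiv_comp {G G' : CohTop.Ab X} {W V : Opens X} (h : W ≤ V) (a : LocCohZ.zq h ⟶ G)
    (φ : G ⟶ G') : (zqHomEquiv G' h (a ≫ φ)).1 = φ.hom.app (op V) (zqHomEquiv G h a).1 := by
  rw [zqHomEquiv_val, zqHomEquiv_val, ← Category.assoc]
  rfl

variable {Y : TopCat.{u}} (f : X ⟶ Y) (V : Opens Y)

/-- sections with support of a direct image. -/
noncomputable def sectZPush (F : CohTop.Ab X) :
    LocCohZ.sectZ F (le_top : (Opens.map f).obj V ≤ ⊤) ≃+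
      LocCohZ.sectZ ((CohTop.push f).obj F) (le_top : V ≤ ⊤) :=
  AddEquiv.refl _

/-- `Hom(ℤ_X/ℤ_{f⁻¹V}, F) ≃ Hom(ℤ_Y/ℤ_V, f_* F)`. -/
noncomputable def zqPushEquiv (F : CohTop.Ab X) :
    (LocCohZ.zq (le_top : (Opens.map f).obj V ≤ ⊤) ⟶ F) ≃+
      (LocCohZ.zq (le_top : V ≤ ⊤) ⟶ (CohTop.push f).obj F) :=
  (zqHomEquiv F _).trans ((sectZPush f V F).trans (zqHomEquiv ((CohTop.push f).obj F) _).symm)

lemma zqPushEquiv_comp {F G : CohTop.Ab X} (a : LocCohZ.zq (le_top : (Opens.map f).obj V ≤ ⊤) ⟶ F)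
    (φ : F ⟶ G) : zqPushEquiv f V G (a ≫ φ) = zqPushEquiv f V F a ≫ (CohTop.push f).map φ := by
  apply (zqHomEquiv ((CohTop.push f).obj G) _).injective
  apply Subtype.ext
  rw [zqHomEquiv_comp]
  simp only [zqPushEquiv, AddEquiv.trans_apply, AddEquiv.apply_symm_apply]
  show (zqHomEquiv G _ (a ≫ φ)).1 = _
  rw [zqHomEquiv_comp]
  rfl

end Groth.Agent.GSS
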