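import Groth.Prelude.Def_LocCohZ
import Groth.Agent.Lib.GSS.ZqHom
import Groth.Agent.Lib.CohTopRestr
import Groth.Agent.Lib.RpushSheafify

set_option autoImplicit false
universe u
open CategoryTheory CategoryTheory.Limits Opposite Abelian TopologicalSpace

namespace Groth.Agent.GSS

open Groth.Agent.CohTopBasics

variable {X : TopCat.{u}} (U : Opens X)

/-- the adjunction `j⁻¹ ⊣ j_*` for the inclusion of the open `U`. -/
noncomputable abbrev adjU : CohTop.pull (CohCx.incl U) ⊣ CohTop.push (CohCx.incl U) :=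
  TopCat.Sheaf.pullbackPushforwardAdjunction AddCommGrpCat.{u} (CohCx.incl U)

instance pushInclAdditive : (CohTop.push (CohCx.incl U)).Additive :=
  CohTop.instAdditiveAbPush (CohCx.incl U)

instance pullInclAdditive : (CohTop.pull (CohCx.incl U)).Additive :=
  (adjU U).left_adjoint_additive

lemma comp_unit_eq_zero_iff {A F : CohTop.Ab X} (a : A ⟶ F) :
    a ≫ (adjU U).unit.app F = 0 ↔ (CohTop.pull (CohCx.incl U)).map a = 0 := by
  have h1 : a ≫ (adjU U).unit.app F =
      (adjU U).homEquiv A _ ((CohTop.pull (CohCx.incl U)).map a) := by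
    rw [Adjunction.homEquiv_unit]
    exact ((adjU U).unit.naturality a)
  rw [h1]
  constructor
  · intro h
    apply ((adjU U).homEquiv A _).injective
    rw [h, Adjunction.homEquiv_unit, Functor.map_zero, comp_zero]
  · intro h
    rw [h, Adjunction.homEquiv_unit, Functor.map_zero, comp_zero]

lemma pull_map_eq_zero_iff {A F : CohTop.Ab X} (a : A ⟶ F) :
    (CohTop.pull (CohCx.incl U)).map a = 0 ↔ (CohTop.restrFunctor U).map a = 0 := by
  have h := (pullIsoRestr U).hom.naturality a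
  constructor
  · intro h0
    rw [h0, zero_comp] at h
    have : (pullIsoRestr U).inv.app A ≫ (pullIsoRestr U).hom.app A ≫ (CohTop.restrFunctor U).map a = 0 := by
      rw [← h, comp_zero]
    simpa using this
  · intro h0
    rw [h0, comp_zero] at h
    have : ((CohTop.pull (CohCx.incl U)).map a ≫ (pullIsoRestr U).hom.app F) ≫ (pullIsoRestr U).inv.app F = 0 := by
      rw [h, zero_comp]
    simpa using this

lemma app_eq_zero_of_restr_map_eq_zero {A F : CohTop.Ab X} (a : A ⟶ F)
    (h : (CohTop.restrFunctor U).map a = 0) (W : Opens X) (hW : W ≤ U) :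
    a.hom.app (op W) = 0 := by
  obtain ⟨W', rfl⟩ : ∃ W' : Opens (TopCat.of U), W = U.isOpenEmbedding.isOpenMap.functor.obj W' := by
    refine ⟨(Opens.map (CohCx.incl U)).obj W, ?_⟩
    ext x
    constructor
    · intro hx
      exact ⟨⟨x, hW hx⟩, hx, rfl⟩
    · rintro ⟨y, hy, rfl⟩
      exact hy
  have := congrArg (fun b => b.hom.app (op W')) h
  exact this

end Groth.Agent.GSS

namespace Groth.Agent.GSS

open Groth.Agent.CohSiteBasics

variable {X : TopCat.{u}} (U : Opens X)

local notation "JX" => Opens.grothendieckTopology X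

/-- `j⁻¹(ℤ_W ⟶ ℤ_V)` is an isomorphism when `W` and `V` have the same trace on `U`. -/
lemma isIso_pull_freeMap {W V : Opens X} (h : W ≤ V)
    (hWV : (Opens.map (CohCx.incl U)).obj W = (Opens.map (CohCx.incl U)).obj V) :
    IsIso ((CohTop.pull (CohCx.incl U)).map (freeMap JX (homOfLE h))) := by
  rw [isIso_iff_coyoneda_map_bijective]
  intro G
  -- transport along the adjunction and `secEquiv`
  let eV : ((CohTop.pull (CohCx.incl U)).obj (freeSheaf JX V) ⟶ G) ≃
      ((CohTop.push (CohCx.incl U)).obj G).obj.obj (op V) :=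
    ((adjU U).homEquiv _ _).trans (secEquiv V ((CohTop.push (CohCx.incl U)).obj G))
  let eW : ((CohTop.pull (CohCx.incl U)).obj (freeSheaf JX W) ⟶ G) ≃
      ((CohTop.push (CohCx.incl U)).obj G).obj.obj (op W) :=
    ((adjU U).homEquiv _ _).trans (secEquiv W ((CohTop.push (CohCx.incl U)).obj G))
  have hcomm : ∀ x : (CohTop.pull (CohCx.incl U)).obj (freeSheaf JX V) ⟶ G,
      eW ((CohTop.pull (CohCx.incl U)).map (freeMap JX (homOfLE h)) ≫ x) =
        ((CohTop.push (CohCx.incl U)).obj G).obj.map (homOfLE h).op (eV x) := by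
    intro x
    simp only [eV, eW, Equiv.trans_apply]
    rw [Adjunction.homEquiv_naturality_left, secEquiv_freeMap]
  have hiso : IsIso ((Opens.map (CohCx.incl U)).map (homOfLE h)) :=
    ⟨⟨eqToHom hWV.symm, Subsingleton.elim _ _, Subsingleton.elim _ _⟩⟩
  have hbij : Function.Bijective (((CohTop.push (CohCx.incl U)).obj G).obj.map (homOfLE h).op) := by
    have : IsIso (((CohTop.push (CohCx.incl U)).obj G).obj.map (homOfLE h).op) := by
      show IsIso (G.obj.map ((Opens.map (CohCx.incl U)).map (homOfLE h)).op)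
      infer_instance
    exact ConcreteCategory.bijective_of_isIso _
  have : (fun x : (CohTop.pull (CohCx.incl U)).obj (freeSheaf JX V) ⟶ G =>
      (CohTop.pull (CohCx.incl U)).map (freeMap JX (homOfLE h)) ≫ x) =
      eW.symm ∘ (((CohTop.push (CohCx.incl U)).obj G).obj.map (homOfLE h).op) ∘ eV := by
    funext x
    simp only [Function.comp_apply]
    rw [← hcomm, Equiv.symm_apply_apply]
  rw [this]
  exact eW.symm.bijective.comp (hbij.comp eV.bijective)

/-- Key lemma: a map `a : ℤ_V ⟶ F` is killed by the unit `F ⟶ j_* j⁻¹ F` iff its restriction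
to `W` vanishes, where `W ≤ V`, `W ≤ U` has the same trace on `U` as `V`. -/
lemma comp_unit_eq_zero_iff_freeMap_comp {W V : Opens X} (h : W ≤ V) (hW : W ≤ U)
    (hWV : (Opens.map (CohCx.incl U)).obj W = (Opens.map (CohCx.incl U)).obj V)
    {F : CohTop.Ab X} (a : freeSheaf JX V ⟶ F) :
    a ≫ (adjU U).unit.app F = 0 ↔ freeMap JX (homOfLE h) ≫ a = 0 := by
  rw [comp_unit_eq_zero_iff]
  constructor
  · intro h0
    have h1 := (pull_map_eq_zero_iff U a).1 h0
    have h2 := app_eq_zero_of_restr_map_eq_zero U a h1 W hW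
    apply (secAddEquiv W F).injective
    rw [map_zero, secAddEquiv_apply, secEquiv_comp, h2]
    rfl
  · intro h0
    have := isIso_pull_freeMap U h hWV
    rw [← cancel_epi ((CohTop.pull (CohCx.incl U)).map (freeMap JX (homOfLE h))), ← Functor.map_comp, h0,
      Functor.map_zero, comp_zero]

end Groth.Agent.GSS

namespace Groth.Agent.GSS

open Groth.Agent.CohSiteBasics

variable {X : TopCat.{u}} (U : Opens X)

local notation "JX" => Opens.grothendieckTopology X

lemma map_incl_eq_top : (Opens.map (CohCx.incl U)).obj U = (Opens.map (CohCx.incl U)).obj ⊤ := by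
  ext x
  exact ⟨fun _ => trivial, fun _ => x.2⟩

lemma map_incl_inf (V : Opens X) :
    (Opens.map (CohCx.incl U)).obj (V ⊓ U) = (Opens.map (CohCx.incl U)).obj V := by
  ext x
  exact ⟨fun h => h.1, fun h => ⟨h, x.2⟩⟩



lemma sectSuppF_obj (F : CohTop.Ab X) :
    (LocCohZ.sectSuppF U).obj F = kernel ((adjU U).unit.app F) := rfl

/-- the inclusion `Γ_Z(F) ⟶ F`. -/
noncomputable def sectSuppι (F : CohTop.Ab X) : (LocCohZ.sectSuppF U).obj F ⟶ F :=
  kernel.ι ((adjU U).unit.app F)

instance (F : CohTop.Ab X) : Mono (sectSuppι U F) := by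
  unfold sectSuppι
  exact inferInstanceAs (Mono (kernel.ι ((adjU U).unit.app F)))

lemma sectSuppι_unit (F : CohTop.Ab X) : sectSuppι U F ≫ (adjU U).unit.app F = 0 :=
  kernel.condition ((adjU U).unit.app F)

/-- lifting to `Γ_Z(F)`. -/
noncomputable def sectSuppLift {A F : CohTop.Ab X} (a : A ⟶ F) (h : a ≫ (adjU U).unit.app F = 0) :
    A ⟶ (LocCohZ.sectSuppF U).obj F :=
  kernel.lift ((adjU U).unit.app F) a h

@[reassoc (attr := simp)]
lemma sectSuppLift_ι {A F : CohTop.Ab X} (a : A ⟶ F) (h : a ≫ (adjU U).unit.app F = 0) :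
    sectSuppLift U a h ≫ sectSuppι U F = a :=
  kernel.lift_ι _ _ _

@[reassoc]
lemma sectSuppF_map_ι {F G : CohTop.Ab X} (φ : F ⟶ G) :
    (LocCohZ.sectSuppF U).map φ ≫ sectSuppι U G = sectSuppι U F ≫ φ :=
  kernel.lift_ι _ _ _

lemma π_unit_zero (F : CohTop.Ab X) (b : LocCohZ.zq (le_top : U ≤ ⊤) ⟶ F) :
    (cokernel.π (CohCx.freeSheafMap JX (homOfLE (le_top : U ≤ ⊤))) ≫ b) ≫ (adjU U).unit.app F = 0 := by
  refine (comp_unit_eq_zero_iff_freeMap_comp U le_top le_rfl (map_incl_eq_top U) _).2 ?_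
  rw [← Category.assoc]
  erw [cokernel.condition]
  rw [zero_comp]

lemma freeMap_ι_zero (F : CohTop.Ab X) (c : freeSheaf JX ⊤ ⟶ (LocCohZ.sectSuppF U).obj F) :
    CohCx.freeSheafMap JX (homOfLE (le_top : U ≤ ⊤)) ≫ (c ≫ sectSuppι U F) = 0 := by
  have h0 : (c ≫ sectSuppι U F) ≫ (adjU U).unit.app F = 0 := by
    rw [Category.assoc, sectSuppι_unit, comp_zero]
  exact (comp_unit_eq_zero_iff_freeMap_comp U le_top le_rfl (map_incl_eq_top U)
    (c ≫ sectSuppι U F)).1 h0

/-- global sections of `Γ_Z(F)` are the maps out of `ℤ_X/ℤ_U`. -/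
noncomputable def zqSectSuppEquiv (F : CohTop.Ab X) :
    (LocCohZ.zq (le_top : U ≤ ⊤) ⟶ F) ≃+ (freeSheaf JX ⊤ ⟶ (LocCohZ.sectSuppF U).obj F) where
  toFun b := sectSuppLift U
    (cokernel.π (CohCx.freeSheafMap JX (homOfLE (le_top : U ≤ ⊤))) ≫ b) (π_unit_zero U F b)
  invFun c := cokernel.desc (CohCx.freeSheafMap JX (homOfLE (le_top : U ≤ ⊤)))
    (c ≫ sectSuppι U F) (freeMap_ι_zero U F c)
  left_inv b := by
    apply (cancel_epi (cokernel.π (CohCx.freeSheafMap JX (homOfLE (le_top : U ≤ ⊤))))).1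
    rw [cokernel.π_desc, sectSuppLift_ι]
  right_inv c := by
    apply (cancel_mono (sectSuppι U F)).1
    rw [sectSuppLift_ι, cokernel.π_desc]
  map_add' b b' := by
    apply (cancel_mono (sectSuppι U F)).1
    rw [Preadditive.add_comp, sectSuppLift_ι, sectSuppLift_ι, sectSuppLift_ι, Preadditive.comp_add]

lemma zqSectSuppEquiv_ι (F : CohTop.Ab X) (b : LocCohZ.zq (le_top : U ≤ ⊤) ⟶ F) :
    zqSectSuppEquiv U F b ≫ sectSuppι U F =
      cokernel.π (CohCx.freeSheafMap JX (homOfLE (le_top : U ≤ ⊤))) ≫ b :=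
  sectSuppLift_ι U _ _

lemma zqSectSuppEquiv_comp {F G : CohTop.Ab X} (b : LocCohZ.zq (le_top : U ≤ ⊤) ⟶ F) (φ : F ⟶ G) :
    zqSectSuppEquiv U G (b ≫ φ) = zqSectSuppEquiv U F b ≫ (LocCohZ.sectSuppF U).map φ := by
  apply (cancel_mono (sectSuppι U G)).1
  rw [zqSectSuppEquiv_ι, Category.assoc, sectSuppF_map_ι, ← Category.assoc (zqSectSuppEquiv U F b),
    zqSectSuppEquiv_ι, Category.assoc]

end Groth.Agent.GSS
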