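import Groth.Agent.Lib.GSS.SectSupp

set_option autoImplicit false
universe u
open CategoryTheory CategoryTheory.Limits Opposite Abelian TopologicalSpace

namespace Groth.Agent.GSS

open Groth.Agent.CohSiteBasics

variable {X : TopCat.{u}} (U : Opens X)

local notation "JX" => Opens.grothendieckTopology X

lemma map_eq_zero_of_le (A : CohTop.Ab X) {V' W T : Opens X} (_hT : T ≤ V') (hTW : T ≤ V' ⊓ W)
    (s : A.obj.obj (op V')) (hs : A.obj.map (homOfLE (inf_le_left : V' ⊓ W ≤ V')).op s = 0)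
    (f : T ⟶ V') : A.obj.map f.op s = 0 := by
  have : f = homOfLE hTW ≫ homOfLE (inf_le_left : V' ⊓ W ≤ V') := Subsingleton.elim _ _
  rw [this, op_comp, Functor.map_comp, ConcreteCategory.comp_apply, hs, map_zero]

lemma exists_glue_zero (A : CohTop.Ab X) {V' W : Opens X}
    (s : A.obj.obj (op V')) (hs : A.obj.map (homOfLE (inf_le_left : V' ⊓ W ≤ V')).op s = 0) :
    ∃ g : A.obj.obj (op (V' ⊔ W)), A.obj.map (homOfLE (le_sup_left : V' ≤ V' ⊔ W)).op g = s ∧
      A.obj.map (homOfLE (le_sup_right : W ≤ V' ⊔ W)).op g = 0 := by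
  let Wf : Bool → Opens X := fun b => cond b V' W
  let sf : ∀ b, ToType (A.obj.obj (op (Wf b))) := fun b => match b with
    | true => s
    | false => (0 : A.obj.obj (op W))
  have hc : TopCat.Presheaf.IsCompatible A.obj Wf sf := by
    intro i j
    cases i <;> cases j
    · show A.obj.map _ (0 : A.obj.obj (op W)) = A.obj.map _ (0 : A.obj.obj (op W))
      rw [map_zero, map_zero]
    · show A.obj.map _ (0 : A.obj.obj (op W)) = A.obj.map _ s
      rw [map_zero]
      exact (map_eq_zero_of_le A (inf_le_right : W ⊓ V' ≤ V') (le_inf inf_le_right inf_le_left) s hs _).symm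
    · show A.obj.map _ s = A.obj.map _ (0 : A.obj.obj (op W))
      rw [map_zero]
      exact map_eq_zero_of_le A (inf_le_left : V' ⊓ W ≤ V') le_rfl s hs _
    · rfl
  obtain ⟨g, hg, -⟩ := TopCat.Sheaf.existsUnique_gluing' A Wf (V' ⊔ W)
    (fun b => match b with
      | true => homOfLE (le_sup_left : V' ≤ V' ⊔ W)
      | false => homOfLE (le_sup_right : W ≤ V' ⊔ W)) (by
      apply sup_le
      · exact le_iSup Wf true
      · exact le_iSup Wf false) sf hc
  exact ⟨g, hg true, hg false⟩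

lemma exists_extension_of_isFlasque (A : CohTop.Ab X) [TopCat.Sheaf.IsFlasque A] {V V' W : Opens X}
    (h : V' ≤ V) (hW : W ≤ V)
    (s : A.obj.obj (op V')) (hs : A.obj.map (homOfLE (inf_le_left : V' ⊓ W ≤ V')).op s = 0) :
    ∃ r : A.obj.obj (op V), A.obj.map (homOfLE h).op r = s ∧ A.obj.map (homOfLE hW).op r = 0 := by
  obtain ⟨g, hg1, hg2⟩ := exists_glue_zero A s hs
  have hle : V' ⊔ W ≤ V := sup_le h hW
  have hepi : Epi (A.obj.map (homOfLE hle).op) := TopCat.Presheaf.IsFlasque.epi _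
  rw [AddCommGrpCat.epi_iff_surjective] at hepi
  obtain ⟨r, rfl⟩ := hepi g
  refine ⟨r, ?_, ?_⟩
  · rw [← hg1, ← ConcreteCategory.comp_apply, ← Functor.map_comp, ← op_comp]
    rfl
  · rw [← hg2, ← ConcreteCategory.comp_apply, ← Functor.map_comp, ← op_comp]
    rfl

theorem sectSuppF_isFlasque (A : CohTop.Ab X) [hA : TopCat.Sheaf.IsFlasque A] :
    TopCat.Sheaf.IsFlasque ((LocCohZ.sectSuppF U).obj A) := by
  refine ⟨fun {V V'} i => ?_⟩
  rw [AddCommGrpCat.epi_iff_surjective]
  intro s'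
  obtain ⟨V⟩ := V
  obtain ⟨V'⟩ := V'
  have h : V' ≤ V := leOfHom i.unop
  have hi : i = (homOfLE h).op := Subsingleton.elim _ _
  obtain ⟨a', rfl⟩ := (secEquiv V' ((LocCohZ.sectSuppF U).obj A)).surjective s'
  have h1 : freeMap JX (homOfLE (inf_le_left : V' ⊓ U ≤ V')) ≫ (a' ≫ sectSuppι U A) = 0 :=
    (comp_unit_eq_zero_iff_freeMap_comp U inf_le_left inf_le_right (map_incl_inf U _) _).1
      (by rw [Category.assoc, sectSuppι_unit, comp_zero])
  have h2 : A.obj.map (homOfLE (inf_le_left : V' ⊓ U ≤ V')).op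
      (secEquiv V' A (a' ≫ sectSuppι U A)) = 0 := by
    rw [← secEquiv_freeMap, h1]
    exact map_zero (secAddEquiv _ A)
  have h3 := map_eq_zero_of_le A (inf_le_left : V' ⊓ (V ⊓ U) ≤ V')
    (le_inf inf_le_left (inf_le_right.trans inf_le_right)) _ h2
    (homOfLE (inf_le_left : V' ⊓ (V ⊓ U) ≤ V'))
  obtain ⟨r, hr1, hr2⟩ := exists_extension_of_isFlasque A h (inf_le_left : V ⊓ U ≤ V) _ h3
  let b := (secEquiv V A).symm r
  have hb : b ≫ (adjU U).unit.app A = 0 := by
    refine (comp_unit_eq_zero_iff_freeMap_comp U inf_le_left inf_le_right (map_incl_inf U V) b).2 ?_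
    apply (secEquiv _ A).injective
    rw [secEquiv_freeMap, Equiv.apply_symm_apply, hr2]
    exact (map_zero (secAddEquiv _ A)).symm
  refine ⟨secEquiv V _ (sectSuppLift U b hb), ?_⟩
  rw [hi, ← secEquiv_freeMap]
  congr 1
  apply (cancel_mono (sectSuppι U A)).1
  rw [Category.assoc, sectSuppLift_ι]
  apply (secEquiv _ A).injective
  rw [secEquiv_freeMap, Equiv.apply_symm_apply, hr1]

end Groth.Agent.GSS
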