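import Groth.Agent.Lib.GSS.SectSuppFlasque
import Groth.Agent.Lib.GSS.Grothendieck
import Groth.Agent.Lib.GSS.ExtDer
import Groth.Agent.Lib.CohTopAcyclic
import Groth.Agent.Lib.SSAbs

/-! The local-to-global spectral sequence for cohomology with supports over an arbitrary open `V`,
and its low-degree consequences. -/

set_option autoImplicit false
universe u
open CategoryTheory CategoryTheory.Limits TopologicalSpace Opposite

namespace Groth.Agent.GSS

open Groth.Agent.CohSiteBasics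

variable {X : TopCat.{u}} (U V : Opens X)

local notation "JX" => Opens.grothendieckTopology X

lemma π_unit_zeroV (F : CohTop.Ab X) (b : LocCohZ.zq (inf_le_left : V ⊓ U ≤ V) ⟶ F) :
    (cokernel.π (CohCx.freeSheafMap JX (homOfLE (inf_le_left : V ⊓ U ≤ V))) ≫ b) ≫
      (adjU U).unit.app F = 0 := by
  refine (comp_unit_eq_zero_iff_freeMap_comp U inf_le_left inf_le_right (map_incl_inf U V) _).2 ?_
  rw [← Category.assoc]
  erw [cokernel.condition]
  rw [zero_comp]

lemma freeMap_ι_zeroV (F : CohTop.Ab X) (c : freeSheaf JX V ⟶ (LocCohZ.sectSuppF U).obj F) :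
    CohCx.freeSheafMap JX (homOfLE (inf_le_left : V ⊓ U ≤ V)) ≫ (c ≫ sectSuppι U F) = 0 := by
  have h0 : (c ≫ sectSuppι U F) ≫ (adjU U).unit.app F = 0 := by
    rw [Category.assoc, sectSuppι_unit, comp_zero]
  exact (comp_unit_eq_zero_iff_freeMap_comp U inf_le_left inf_le_right (map_incl_inf U V)
    (c ≫ sectSuppι U F)).1 h0

/-- sections of `Γ_Z(F)` over `V` are the maps out of `ℤ_V/ℤ_{V ∩ U}`. -/
noncomputable def zqSectSuppEquivV (F : CohTop.Ab X) :
    (LocCohZ.zq (inf_le_left : V ⊓ U ≤ V) ⟶ F) ≃+ (freeSheaf JX V ⟶ (LocCohZ.sectSuppF U).obj F) where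
  toFun b := sectSuppLift U
    (cokernel.π (CohCx.freeSheafMap JX (homOfLE (inf_le_left : V ⊓ U ≤ V))) ≫ b) (π_unit_zeroV U V F b)
  invFun c := cokernel.desc (CohCx.freeSheafMap JX (homOfLE (inf_le_left : V ⊓ U ≤ V)))
    (c ≫ sectSuppι U F) (freeMap_ι_zeroV U V F c)
  left_inv b := by
    apply (cancel_epi (cokernel.π (CohCx.freeSheafMap JX (homOfLE (inf_le_left : V ⊓ U ≤ V))))).1
    rw [cokernel.π_desc, sectSuppLift_ι]
  right_inv c := by
    apply (cancel_mono (sectSuppι U F)).1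
    rw [sectSuppLift_ι, cokernel.π_desc]
  map_add' b b' := by
    apply (cancel_mono (sectSuppι U F)).1
    rw [Preadditive.add_comp, sectSuppLift_ι, sectSuppLift_ι, sectSuppLift_ι, Preadditive.comp_add]

lemma zqSectSuppEquivV_ι (F : CohTop.Ab X) (b : LocCohZ.zq (inf_le_left : V ⊓ U ≤ V) ⟶ F) :
    zqSectSuppEquivV U V F b ≫ sectSuppι U F =
      cokernel.π (CohCx.freeSheafMap JX (homOfLE (inf_le_left : V ⊓ U ≤ V))) ≫ b :=
  sectSuppLift_ι U _ _

lemma zqSectSuppEquivV_comp {F G : CohTop.Ab X} (b : LocCohZ.zq (inf_le_left : V ⊓ U ≤ V) ⟶ F)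
    (φ : F ⟶ G) :
    zqSectSuppEquivV U V G (b ≫ φ) = zqSectSuppEquivV U V F b ≫ (LocCohZ.sectSuppF U).map φ := by
  apply (cancel_mono (sectSuppι U G)).1
  rw [zqSectSuppEquivV_ι, Category.assoc, sectSuppF_map_ι, ← Category.assoc (zqSectSuppEquivV U V F b),
    zqSectSuppEquivV_ι, Category.assoc]

/-- the local-to-global spectral sequence over `V`. -/
theorem ssV (F : CohTop.Ab X) :
    ∃ (E : E₂CohomologicalSpectralSequence AddCommGrpCat.{u})
      (a : SpSeq.Abutment E (fun n : ℤ =>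
        if 0 ≤ n then AddCommGrpCat.of (LocCohZ.HZ F n.toNat (inf_le_left : V ⊓ U ≤ V))
        else AddCommGrpCat.of PUnit.{u + 1})),
      (∀ n : ℤ, a.IsFinite n) ∧ SpSeq.IsBounded E ∧
      ∀ p q : ℤ, Nonempty ((E.page 2 le_rfl).X (p, q) ≅
        (if 0 ≤ p ∧ 0 ≤ q then AddCommGrpCat.of (CohTop.HU ((LocCohZ.HZsh U q.toNat).obj F) p.toNat V)
          else AddCommGrpCat.of PUnit.{u + 1})) := by
  let T := LocCohZ.sectSuppF U
  let P : CohTop.Ab X := Groth.Agent.CohSiteBasics.freeSheaf (Opens.grothendieckTopology X) V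
  let S : CohTop.Ab X ⥤ AddCommGrpCat.{u} := preadditiveCoyoneda.obj (Opposite.op P)
  let Z : CohTop.Ab X ⥤ AddCommGrpCat.{u} :=
    preadditiveCoyoneda.obj (Opposite.op (LocCohZ.zq (inf_le_left : V ⊓ U ≤ V)))
  have hSder : ∀ (p : ℕ) (G : CohTop.Ab X),
      Nonempty ((S.rightDerived p).obj G ≅ AddCommGrpCat.of (CohTop.HU G p V)) := fun p G =>
    Groth.Agent.GSS.nonempty_rightDerived_iso_ext S P
      (fun F => AddEquiv.refl _) (fun a φ => rfl) p G
  let α : Z ≅ T ⋙ S := NatIso.ofComponents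
    (fun G => (zqSectSuppEquivV U V G).toAddCommGrpIso)
    (fun {G G'} φ => by
      ext b
      exact zqSectSuppEquivV_comp U V b φ)
  have : PreservesFiniteLimits (T ⋙ S) := preservesFiniteLimits_of_natIso α
  have hTSder : ∀ (n : ℕ) (G : CohTop.Ab X),
      Nonempty (((T ⋙ S).rightDerived n).obj G ≅
        AddCommGrpCat.of (LocCohZ.HZ G n (inf_le_left : V ⊓ U ≤ V))) := fun n G =>
    Groth.Agent.GSS.nonempty_rightDerived_iso_ext (T ⋙ S)
      (LocCohZ.zq (inf_le_left : V ⊓ U ≤ V))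
      (fun F => zqSectSuppEquivV U V F)
      (fun a φ => zqSectSuppEquivV_comp U V a φ) n G
  have hT : ∀ Q : CohTop.Ab X, Injective Q → ∀ q : ℕ, 0 < q →
      IsZero ((S.rightDerived q).obj (T.obj Q)) := by
    intro Q hQ q hq
    obtain ⟨q, rfl⟩ := Nat.exists_eq_succ_of_ne_zero (Nat.pos_iff_ne_zero.1 hq)
    have h1 : TopCat.Sheaf.IsFlasque Q := Groth.Agent.CohTopBasics.isFlasque_of_injective Q
    have h2 : TopCat.Sheaf.IsFlasque (T.obj Q) := Groth.Agent.GSS.sectSuppF_isFlasque U Q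
    obtain ⟨e⟩ := hSder (q + 1) (T.obj Q)
    refine IsZero.of_iso ?_ e
    have : Subsingleton (CohTop.HU (T.obj Q) (q + 1) V) :=
      ⟨fun x y => (Groth.Agent.CohTopBasics.ext_freeSheaf_eq_zero_of_isFlasque V q (T.obj Q) x).trans
        (Groth.Agent.CohTopBasics.ext_freeSheaf_eq_zero_of_isFlasque V q (T.obj Q) y).symm⟩
    exact AddCommGrpCat.isZero_of_subsingleton _
  have hP : IsZero (AddCommGrpCat.of PUnit.{u + 1}) := AddCommGrpCat.isZero_of_subsingleton _
  refine Groth.Agent.GSS.grothendieck T S hT F _ (fun n => ?_) (fun n hn => ?_) _ (fun p q => ?_) (fun p q h => ?_)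
  · simp only [Int.natCast_nonneg, if_true, Int.toNat_natCast]
    obtain ⟨e⟩ := hTSder n F
    exact ⟨e.symm⟩
  · rw [if_neg (by omega)]
    exact hP
  · simp only [Int.natCast_nonneg, and_self, if_true, Int.toNat_natCast]
    obtain ⟨e⟩ := hSder p ((LocCohZ.HZsh U q).obj F)
    exact ⟨e.symm⟩
  · rw [if_neg (by omega)]
    exact hP

end Groth.Agent.GSS
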