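import Groth.Agent.Lib.GSS.SectSuppV
import Groth.Agent.Lib.SSAbs2

/-! Low-degree consequences of the local-to-global spectral sequence for supports. -/

set_option autoImplicit false
universe u
open CategoryTheory CategoryTheory.Limits TopologicalSpace Opposite Abelian

namespace Groth.Agent.GSS

open Groth.Agent.CohSiteBasics

variable {X : TopCat.{u}} (U V : Opens X)

lemma ext_eq_zero_of_isZero_tgt {A G : CohTop.Ab X} (hG : IsZero G) (k : ℕ) (x : Ext A G k) : x = 0 := by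
  have h1 : x = x.comp (Ext.mk₀ (𝟙 G)) (add_zero k) := (Ext.comp_mk₀_id x).symm
  rw [h1, hG.eq_of_src (𝟙 G) 0, Ext.mk₀_zero, Ext.comp_zero]

lemma isZero_HU_of_isZero {G : CohTop.Ab X} (hG : IsZero G) (k : ℕ) :
    IsZero (AddCommGrpCat.of (CohTop.HU G k V)) := by
  have : Subsingleton (CohTop.HU G k V) :=
    ⟨fun x y => (ext_eq_zero_of_isZero_tgt hG k x).trans (ext_eq_zero_of_isZero_tgt hG k y).symm⟩
  exact AddCommGrpCat.isZero_of_subsingleton _

lemma isZero_punit : IsZero (AddCommGrpCat.of PUnit.{u + 1}) := AddCommGrpCat.isZero_of_subsingleton _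

/-- page-two vanishing below the row `n`. -/
lemma isZero_E2_of_lt (F : CohTop.Ab X) (n : ℕ)
    (h : ∀ q : ℕ, q < n → IsZero ((LocCohZ.HZsh U q).obj F))
    (E2 : AddCommGrpCat.{u}) (p q : ℤ) (hq : q < n)
    (e : E2 ≅ (if 0 ≤ p ∧ 0 ≤ q then
        AddCommGrpCat.of (CohTop.HU ((LocCohZ.HZsh U q.toNat).obj F) p.toNat V)
      else AddCommGrpCat.of PUnit.{u + 1})) : IsZero E2 := by
  refine IsZero.of_iso ?_ e
  by_cases hc : 0 ≤ p ∧ 0 ≤ q
  · rw [if_pos hc]
    exact isZero_HU_of_isZero V (h q.toNat (by omega)) _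
  · rw [if_neg hc]
    exact isZero_punit

lemma isZero_E2_of_neg (F : CohTop.Ab X) (E2 : AddCommGrpCat.{u}) (p q : ℤ) (hp : p < 0)
    (e : E2 ≅ (if 0 ≤ p ∧ 0 ≤ q then
        AddCommGrpCat.of (CohTop.HU ((LocCohZ.HZsh U q.toNat).obj F) p.toNat V)
      else AddCommGrpCat.of PUnit.{u + 1})) : IsZero E2 := by
  refine IsZero.of_iso ?_ e
  rw [if_neg (by omega)]
  exact isZero_punit

/-- (C1) vanishing of the local cohomology sheaves below `n` gives vanishing of the groups. -/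
theorem HZ_subsingleton_of_HZsh_isZero (F : CohTop.Ab X) (n : ℕ)
    (h : ∀ q : ℕ, q < n → IsZero ((LocCohZ.HZsh U q).obj F)) (m : ℕ) (hm : m < n) :
    Subsingleton (LocCohZ.HZ F m (inf_le_left : V ⊓ U ≤ V)) := by
  obtain ⟨E, a, hfin, -, hE⟩ := ssV U V F
  have hz := Groth.Agent.SSAbs.isZero_of_line E a 2 le_rfl (m : ℤ) (fun p => by
    obtain ⟨e⟩ := hE p ((m : ℤ) - p)
    by_cases hp : p < 0
    · exact isZero_E2_of_neg U V F _ p _ hp e
    · exact isZero_E2_of_lt U V F n h _ p _ (by omega) e) (hfin m)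
  simp only [Int.natCast_nonneg, if_true, Int.toNat_natCast] at hz
  exact AddCommGrpCat.subsingleton_of_isZero hz

/-- (C2) the edge isomorphism in the lowest nonvanishing row. -/
theorem nonempty_HZ_iso_H0 (F : CohTop.Ab X) (i : ℕ)
    (h : ∀ q : ℕ, q < i → IsZero ((LocCohZ.HZsh U q).obj F)) :
    Nonempty (AddCommGrpCat.of (LocCohZ.HZ F i (inf_le_left : V ⊓ U ≤ V)) ≅
      AddCommGrpCat.of (CohTop.HU ((LocCohZ.HZsh U i).obj F) 0 V)) := by
  obtain ⟨E, a, hfin, -, hE⟩ := ssV U V F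
  have hneg : ∀ pq : ℤ × ℤ, pq.1 < 0 → IsZero ((E.page 2 le_rfl).X pq) := by
    rintro ⟨p, q⟩ hp
    obtain ⟨e⟩ := hE p q
    exact isZero_E2_of_neg U V F _ p q hp e
  have hlt : ∀ pq : ℤ × ℤ, pq.2 < i → IsZero ((E.page 2 le_rfl).X pq) := by
    rintro ⟨p, q⟩ hq
    obtain ⟨e⟩ := hE p q
    exact isZero_E2_of_lt U V F i h _ p q hq e
  have hst : SpSeq.StationaryAt E ((0 : ℤ), (i : ℤ) - 0) 2 := by
    apply Groth.Agent.SSAbs.stationaryAt_of_isZero E 2 le_rfl
    · intro r' hr'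
      apply hneg
      show (0 : ℤ) - r' < 0
      omega
    · intro r' hr'
      apply hlt
      show (i : ℤ) - 0 + (1 - r') < i
      omega
  obtain ⟨e1⟩ := Groth.Agent.SSAbs.nonempty_iso_of_line E a 2 le_rfl (i : ℤ) 0 (fun p hp => by
    by_cases hp' : p < 0
    · exact hneg _ hp'
    · exact hlt _ (by show (i : ℤ) - p < i; omega)) (hfin i).2 (by
      obtain ⟨a', ha'⟩ := (hfin i).1
      refine ⟨?_, fun b hb => ?_⟩
      · rintro _ ⟨p, rfl⟩
        exact le_top
      · rw [← ha']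
        exact hb ⟨a', rfl⟩) hst
  obtain ⟨e2⟩ := hE 0 ((i : ℤ) - 0)
  simp only [Int.natCast_nonneg, if_true, Int.toNat_natCast] at e1
  rw [if_pos (by omega)] at e2
  simp only [sub_zero, Int.toNat_natCast, Int.toNat_zero] at e2
  exact ⟨e1 ≪≫ e2⟩

/-- (C3) a sheaf all of whose `H^0` over opens vanish is zero. -/
theorem isZero_of_HU_zero_subsingleton (G : CohTop.Ab X)
    (h : ∀ V : Opens X, Subsingleton (CohTop.HU G 0 V)) : IsZero G := by
  rw [IsZero.iff_id_eq_zero]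
  apply Sheaf.hom_ext
  ext V x
  have hsub : Subsingleton (G.obj.obj V) := by
    have e : (freeSheaf (Opens.grothendieckTopology X) V.unop ⟶ G) ≃ G.obj.obj (op V.unop) :=
      secEquiv V.unop G
    have e' : (freeSheaf (Opens.grothendieckTopology X) V.unop ⟶ G) ≃ CohTop.HU G 0 V.unop :=
      (Ext.addEquiv₀ (X := freeSheaf (Opens.grothendieckTopology X) V.unop) (Y := G)).symm.toEquiv
    have := h V.unop
    exact (e.symm.trans e').subsingleton
  exact Subsingleton.elim _ _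

end Groth.Agent.GSS
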