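import Groth.Agent.Lib.GSS.HHIso
import Groth.Agent.Lib.GSS.MapHom

set_option autoImplicit false
universe w v u
open CategoryTheory CategoryTheory.Limits ComposableArrows

namespace Groth.Agent.GSS

variable {A : Type u} [Category.{v} A] [Abelian A] [EnoughInjectives A] [HasDerivedCategory.{w} A]
  {B : Type u} [Category.{v} B] [Abelian B] (S : A ⥤ B) [S.Additive]

noncomputable instance : (HH S).ShiftSequence ℤ := Functor.ShiftSequence.tautological _ _

/-- the truncation t-structure on `D⁺(A)`. -/
noncomputable abbrev tP : Triangulated.TStructure (DerivedCategory.Plus A) := DerivedCategory.Plus.TStructure.t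

/-- The spectral object `(i ≤ j) ↦ ℝⁿS(τ_{[i,j)} X)`. -/
noncomputable def specObj (X : DerivedCategory.Plus A) : Abelian.SpectralObject B EInt :=
  mapHomological ((tP (A := A)).spectralObject X) (HH S)

lemma specObj_H_obj (X : DerivedCategory.Plus A) (n : ℤ) (i j : EInt) (hij : i ≤ j) :
    ((specObj S X).H n).obj (mk₁ (homOfLE hij)) =
      (HH S).obj (((tP.eTruncGE.obj i).obj ((tP.eTruncLT.obj j).obj X))⟦n⟧) := rfl

lemma isZero_HH_of_isGE (K : DerivedCategory.Plus A) [K.IsGE 1] : IsZero ((HH S).obj K) := by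
  obtain ⟨L, hL, ⟨e⟩⟩ := DerivedCategory.Plus.exists_injective_nonempty_iso K 1
  let M : CochainComplex A ℤ := ((InjectiveObject.ι A).mapCochainComplexPlus.obj L).obj
  have hM1 : M.IsStrictlyGE 1 := by
    dsimp [M, Functor.mapCochainComplexPlus]
    rwa [CochainComplex.isStrictlyGE_mapHomologicalComplex_obj_iff]
  have hM : ∀ i, Injective (M.X i) := fun i => (L.obj.X i).property
  have e' : (HH S).obj K ≅ (HH S).obj (DerivedCategory.Plus.Qh.obj (toKPlus M 1)) :=
    (HH S).mapIso e.symm
  refine IsZero.of_iso ?_ (e' ≪≫ HH_Qh_iso S M 1 hM)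
  apply ShortComplex.isZero_homology_of_isZero_X₂
  show IsZero (S.obj (M.X 0))
  apply Functor.map_isZero
  exact CochainComplex.isZero_of_isStrictlyGE M 1 0 (by omega)

instance isFirstQuadrant (X : DerivedCategory.Plus A) [X.IsGE 0] : (specObj S X).IsFirstQuadrant where
  isZero₁ i j hij hj n := by
    rw [specObj_H_obj]
    apply Functor.map_isZero
    apply Functor.map_isZero
    apply Functor.map_isZero
    exact tP.isZero_eTruncLT_obj_obj X 0 j hj
  isZero₂ i j hij n hi := by
    rw [specObj_H_obj]
    induction i using WithBotTop.rec with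
    | bot => simp at hi
    | coe i =>
      have hi' : n < i := by simpa using hi
      have : tP.IsGE ((tP.eTruncGE.obj (i : EInt)).obj ((tP.eTruncLT.obj j).obj X)) i :=
        tP.isGE_eTruncGE_obj_obj i i le_rfl _
      have : tP.IsGE (((tP.eTruncGE.obj (i : EInt)).obj ((tP.eTruncLT.obj j).obj X))⟦n⟧) (i - n) :=
        tP.isGE_shift _ i n (i - n) (by omega)
      have : tP.IsGE (((tP.eTruncGE.obj (i : EInt)).obj ((tP.eTruncLT.obj j).obj X))⟦n⟧) 1 :=
        tP.isGE_of_ge _ 1 (i - n) (by omega)
      exact isZero_HH_of_isGE S _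
    | top =>
      apply Functor.map_isZero
      apply Functor.map_isZero
      simp

end Groth.Agent.GSS
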